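import Cfsg.Agent.Lib.Char.SingleBond.Blocks

/-!
# Automorphisms of `SL₂` over a finite field of odd order commuting with `diag(-1, 1)`
-/

set_option autoImplicit false

namespace CfsgLib.Char.SingleBond

open Matrix

variable {F : Type*} [Field F]

theorem xt_zero : xt (0 : F) = 1 := left_eq_mul.1 (by rw [← xt_add, add_zero] : xt (0 : F) = xt 0 * xt 0)

theorem yt_zero : yt (0 : F) = 1 := left_eq_mul.1 (by rw [← yt_add, add_zero] : yt (0 : F) = yt 0 * yt 0)

theorem xt_inv (t : F) : (xt t)⁻¹ = xt (-t) := by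
  rw [inv_eq_iff_mul_eq_one, ← xt_add, add_neg_cancel, xt_zero]

theorem yt_inv (t : F) : (yt t)⁻¹ = yt (-t) := by
  rw [inv_eq_iff_mul_eq_one, ← yt_add, add_neg_cancel, yt_zero]

theorem xt_pow (t : F) : ∀ n : ℕ, xt t ^ n = xt ((n : F) * t) := by
  intro n
  induction n with
  | zero => rw [pow_zero, Nat.cast_zero, zero_mul, xt_zero]
  | succ n ih => rw [pow_succ, ih, ← xt_add]; congr 1; push_cast; ring

theorem yt_pow (t : F) : ∀ n : ℕ, yt t ^ n = yt ((n : F) * t) := by
  intro n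
  induction n with
  | zero => rw [pow_zero, Nat.cast_zero, zero_mul, yt_zero]
  | succ n ih => rw [pow_succ, ih, ← yt_add]; congr 1; push_cast; ring

theorem tIn_xt (t : F) : tIn (xt t) = yt (-t) := by
  apply Subtype.ext
  rw [tIn_val, coe_yt]
  simp [coe_xt]

theorem tIn_yt (t : F) : tIn (yt t) = xt (-t) := by
  apply Subtype.ext
  rw [tIn_val, coe_xt]
  simp [coe_yt]

theorem prod_xy00 (a b : F) : (xt a * yt b : S2 F).1 0 0 = 1 + a * b := by
  show ((xt a).1 * (yt b).1) 0 0 = _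
  simp [coe_xt, coe_yt, Matrix.mul_apply, Fin.sum_univ_two]

theorem prod_yx00 (a b : F) : (yt b * xt a : S2 F).1 0 0 = 1 := by
  show ((yt b).1 * (xt a).1) 0 0 = _
  simp [coe_xt, coe_yt, Matrix.mul_apply, Fin.sum_univ_two]

/-- an element of order dividing `p` has trace two -/
theorem trace_of_pow (p : ℕ) [hp : Fact p.Prime] [CharP F p] {M : S2 F} (hM : M ^ p = 1) :
    M.1 0 0 + M.1 1 1 = 2 := by
  have h0 : (M.1 - 1) ^ p = 0 := by
    rw [sub_pow_char_of_commute (p := p) (Commute.one_right M.1), one_pow,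
      show M.1 ^ p = ((M ^ p : S2 F) : Matrix (Fin 2) (Fin 2) F) from (Matrix.SpecialLinearGroup.coe_pow M p).symm, hM]
    exact sub_self _
  have h1 : det (M.1 - 1) = 0 := by
    have := congrArg det h0
    rw [det_pow, det_zero] at this
    exact eq_zero_of_pow_eq_zero this
  have h2 := M.2
  rw [det_fin_two] at h2
  rw [det_fin_two] at h1
  simp at h1
  linear_combination h2 - h1

/-- an element of order dividing `p` inverted by `diag(-1,1)` is triangular unipotent -/
theorem inverted_cases (p : ℕ) [hp : Fact p.Prime] [CharP F p] (h2 : (2 : F) ≠ 0) {M : S2 F}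
    (hM : M ^ p = 1) (hth : th2 M = M⁻¹) : (∃ t, M = xt t) ∨ ∃ t, M = yt t := by
  have ht := trace_of_pow p hM
  have e : ((th2 M : S2 F) : Matrix (Fin 2) (Fin 2) F) 0 0 = M.1.adjugate 0 0 :=
    congrFun (congrFun (congrArg Subtype.val hth) 0) 0
  rw [coe_th2, adjugate_fin_two] at e
  simp at e
  have ha : M.1 0 0 = 1 := mul_left_cancel₀ h2 (by linear_combination ht + e)
  have hd : M.1 1 1 = 1 := e ▸ ha
  have hdet := M.2
  rw [det_fin_two, ha, hd] at hdet
  rcases mul_eq_zero.1 (show M.1 0 1 * M.1 1 0 = 0 by linear_combination -hdet) with hb | hc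
  · refine Or.inr ⟨M.1 1 0, ?_⟩
    apply Subtype.ext
    rw [coe_yt]
    ext i j
    fin_cases i <;> fin_cases j <;> simp [ha, hd, hb]
  · refine Or.inl ⟨M.1 0 1, ?_⟩
    apply Subtype.ext
    rw [coe_xt]
    ext i j
    fin_cases i <;> fin_cases j <;> simp [ha, hd, hc]

/-- an injective endomorphism preserving both unipotent subgroups -/
theorem form_of_preserves [Finite F] (h2 : (2 : F) ≠ 0) (β : S2 F →* S2 F) (hβ : Function.Injective β)
    (hx : ∀ t, ∃ u, β (xt t) = xt u) (hy : ∀ t, ∃ u, β (yt t) = yt u) :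
    ∃ (σ : F ≃+* F) (c : Fˣ), ∀ A, β A = glConj (d2 c) (fmapS σ A) := by
  choose f hf using hx
  choose g hg using hy
  have xinj : ∀ s t : F, xt s = xt t → s = t := fun s t h => by
    have := congrFun (congrFun (congrArg Subtype.val h) 0) 1
    simpa [coe_xt] using this
  have yinj : ∀ s t : F, yt s = yt t → s = t := fun s t h => by
    have := congrFun (congrFun (congrArg Subtype.val h) 1) 0
    simpa [coe_yt] using this
  have hadd : ∀ s t, f (s + t) = f s + f t := fun s t =>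
    xinj _ _ (by rw [← hf, xt_add, map_mul, hf, hf, xt_add])
  have hfi : Function.Injective f := fun s t h => xinj _ _ (hβ (by rw [hf, hf, h]))
  have hf0 : f 0 = 0 := add_eq_left.1 (hadd 0 0 ▸ (by rw [add_zero]) : f 0 + f 0 = f 0)
  have hfn : ∀ t, t ≠ 0 → f t ≠ 0 := fun t ht h => ht (hfi (h.trans hf0.symm))
  -- the Weyl elements
  have conjw : ∀ t u : F, t ≠ 0 → (xt t * yt (-t⁻¹) * xt t) * xt u =
      yt (-(u * t⁻¹ * t⁻¹)) * (xt t * yt (-t⁻¹) * xt t) := by
    intro t u ht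
    apply Subtype.ext
    show (xt t).1 * (yt (-t⁻¹)).1 * (xt t).1 * (xt u).1 =
      (yt (-(u * t⁻¹ * t⁻¹))).1 * ((xt t).1 * (yt (-t⁻¹)).1 * (xt t).1)
    rw [coe_xt, coe_yt, coe_yt, coe_xt, mul_fin_two, mul_fin_two, mul_fin_two, mul_fin_two]
    ext i j
    fin_cases i <;> fin_cases j <;> simp <;> field_simp <;> ring_nf <;> simp
  have step : ∀ t : F, t ≠ 0 → g (-t⁻¹) = -(f t)⁻¹ := by
    intro t ht
    have e := congrArg β (conjw t 1 ht)
    simp only [map_mul, hf, hg] at e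
    have e' := congrFun (congrFun (congrArg Subtype.val e) 0) 1
    have hp := hfn t ht
    have h1 := hfn 1 one_ne_zero
    change ((xt (f t)).1 * (yt (g (-t⁻¹))).1 * (xt (f t)).1 * (xt (f 1)).1) 0 1 =
      ((yt (g (-(1 * t⁻¹ * t⁻¹)))).1 * ((xt (f t)).1 * (yt (g (-t⁻¹))).1 * (xt (f t)).1)) 0 1 at e'
    rw [coe_xt, coe_yt, coe_yt, coe_xt, mul_fin_two, mul_fin_two, mul_fin_two, mul_fin_two] at e'
    simp at e'
    have e3 : 1 + f t * g (-t⁻¹) = 0 := e'.resolve_right h1
    refine mul_left_cancel₀ hp ?_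
    rw [mul_neg, mul_inv_cancel₀ hp]
    linear_combination e3
  have hgv : ∀ s : F, s ≠ 0 → g s = -(f (-s⁻¹))⁻¹ := fun s hs => by
    have := step (-s⁻¹) (by simp [hs])
    rwa [inv_neg, inv_inv, neg_neg] at this
  have hsq : ∀ t u : F, t ≠ 0 → u ≠ 0 → f (u⁻¹ * t * t) = f t * f t * (f u)⁻¹ := by
    intro t u ht hu
    have e := congrArg β (conjw t u ht)
    simp only [map_mul, hf, hg] at e
    have hs : -(u * t⁻¹ * t⁻¹) ≠ 0 := by simp [hu, ht]
    rw [step t ht, hgv _ hs, conjw (f t) (f u) (hfn t ht)] at e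
    have := yinj _ _ (mul_right_cancel e)
    rw [inv_neg, neg_neg, mul_inv, mul_inv, inv_inv] at this
    have hw := hfn (u⁻¹ * t * t) (by simp [hu, ht])
    have htt := hfn t ht
    have huu := hfn u hu
    rw [neg_inj] at this
    generalize f (u⁻¹ * t * t) = w at this hw
    have h4 := congrArg (fun x => x * w * (f t * f t) * (f u)⁻¹) this
    calc w = w * ((f u * (f u)⁻¹) * ((f t)⁻¹ * f t) * ((f t)⁻¹ * f t)) := by
          rw [mul_inv_cancel₀ huu, inv_mul_cancel₀ htt]; ring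
      _ = f u * (f t)⁻¹ * (f t)⁻¹ * w * (f t * f t) * (f u)⁻¹ := by ring
      _ = w⁻¹ * w * (f t * f t) * (f u)⁻¹ := h4
      _ = _ := by rw [inv_mul_cancel₀ hw]; ring
  set c := f 1 with hc
  have hc0 : c ≠ 0 := hfn 1 one_ne_zero
  let s : F → F := fun t => f t * c⁻¹
  have s1 : s 1 = 1 := mul_inv_cancel₀ hc0
  have sadd : ∀ a b, s (a + b) = s a + s b := fun a b => by simp only [s, hadd, add_mul]
  have ssq : ∀ a, s (a * a) = s a * s a := fun a => by
    rcases eq_or_ne a 0 with rfl | ha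
    · simp [s, hf0]
    · have := hsq a 1 ha one_ne_zero
      rw [inv_one, one_mul] at this
      simp only [s, this, ← hc]
      ring
  have smul : ∀ a b, s (a * b) = s a * s b := fun a b => by
    have e := ssq (a + b)
    rw [show (a + b) * (a + b) = a * a + a * b + (a * b + b * b) by ring, sadd, sadd, sadd, sadd,
      ssq, ssq] at e
    exact mul_left_cancel₀ h2 (by linear_combination e)
  let hom : F →+* F :=
    { toFun := s, map_one' := s1, map_mul' := smul, map_zero' := by simp [s, hf0], map_add' := sadd }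
  let σ := RingEquiv.ofBijective hom (Finite.injective_iff_bijective.1 hom.injective)
  have hσ : ∀ t, σ t = f t * c⁻¹ := fun t => rfl
  refine ⟨σ, Units.mk0 c hc0, fun A => ?_⟩
  refine DFunLike.congr_fun (s2_hom_ext (f := β) (g := (glConj (d2 (Units.mk0 c hc0))).comp (fmapS σ))
    (fun t => ?_) fun t => ?_) A
  · rw [hf, MonoidHom.comp_apply]
    apply Subtype.ext
    have hm : ∀ i j, (fmapS σ (xt t)).1 i j = σ ((xt t).1 i j) := fun i j => rfl
    rw [glConj_d2, coe_xt, hm, hm, hm, hm, coe_xt]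
    simp [hσ, hc0, hf0, ← hc]
    field_simp
  · rw [hg, MonoidHom.comp_apply]
    apply Subtype.ext
    rw [glConj_d2, coe_yt]
    have e : g t = c⁻¹ * σ t := by
      rcases eq_or_ne t 0 with rfl | ht
      · rw [map_zero, mul_zero]
        exact yinj _ _ (by rw [← hg, yt_zero, map_one])
      · rw [hgv t ht]
        have e1 : f (-t⁻¹) = c * σ (-t⁻¹) := by rw [hσ]; field_simp
        rw [e1, map_neg, map_inv₀]
        field_simp
    have hm : ∀ i j, (fmapS σ (yt t)).1 i j = σ ((yt t).1 i j) := fun i j => rfl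
    rw [hm, hm, hm, hm, coe_yt]
    simp [e]

/-- an injective endomorphism commuting with `diag(-1,1)` -/
theorem form_of_equivariant [Finite F] (p : ℕ) [hp : Fact p.Prime] [CharP F p] (h2 : (2 : F) ≠ 0)
    (α : S2 F →* S2 F) (hα : Function.Injective α) (hc : ∀ A, α (th2 A) = th2 (α A)) :
    ∃ (σ : F ≃+* F) (c : Fˣ), (∀ A, α A = glConj (d2 c) (fmapS σ A)) ∨
      ∀ A, α A = tIn (glConj (d2 c) (fmapS σ A)) := by
  have dich : ∀ (w : F → S2 F), (∀ s t, w (s + t) = w s * w t) → (∀ t, th2 (w t) = (w t)⁻¹) →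
      (∀ t, w t ^ p = 1) → (∀ t, ∃ u, α (w t) = xt u) ∨ ∀ t, ∃ u, α (w t) = yt u := by
    intro w hadd hinv hpow
    have hcases : ∀ t, (∃ u, α (w t) = xt u) ∨ ∃ u, α (w t) = yt u := fun t =>
      inverted_cases p h2 (by rw [← map_pow, hpow, map_one]) (by rw [← hc, hinv, map_inv])
    by_contra hne
    simp only [not_or, not_forall] at hne
    obtain ⟨⟨t, ht⟩, ⟨v, hv⟩⟩ := hne
    obtain ⟨b, hb⟩ := (hcases t).resolve_left ht
    obtain ⟨a, ha⟩ := (hcases v).resolve_right hv
    have ha0 : a ≠ 0 := fun h => hv ⟨0, by rw [ha, h, xt_zero, yt_zero]⟩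
    have hb0 : b ≠ 0 := fun h => ht ⟨0, by rw [hb, h, xt_zero, yt_zero]⟩
    have e : α (w (v + t)) = xt a * yt b := by rw [hadd, map_mul, ha, hb]
    rcases hcases (v + t) with ⟨u, hu⟩ | ⟨u, hu⟩ <;> rw [hu] at e <;>
      have e0 := congrArg (fun M : S2 F => M.1 0 0) e <;>
      simp only [prod_xy00] at e0 <;>
      simp [coe_xt, coe_yt, ha0, hb0] at e0
  have hxp : ∀ t : F, xt t ^ p = 1 := fun t => by rw [xt_pow, CharP.cast_eq_zero, zero_mul, xt_zero]
  have hyp : ∀ t : F, yt t ^ p = 1 := fun t => by rw [yt_pow, CharP.cast_eq_zero, zero_mul, yt_zero]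
  have hX := dich xt xt_add (fun t => by rw [th2_xt, xt_inv]) hxp
  have hY := dich yt yt_add (fun t => by rw [th2_yt, yt_inv]) hyp
  have hncomm : α (xt 1) * α (yt 1) ≠ α (yt 1) * α (xt 1) := by
    rw [← map_mul, ← map_mul]
    intro h
    have e0 := congrArg (fun M : S2 F => M.1 0 0) (hα h)
    simp only [prod_xy00, prod_yx00] at e0
    simp at e0
  rcases hX with hX | hX <;> rcases hY with hY | hY
  · obtain ⟨a, ha⟩ := hX 1
    obtain ⟨b, hb⟩ := hY 1
    exact absurd (by rw [ha, hb, ← xt_add, ← xt_add, add_comm]) hncomm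
  · obtain ⟨σ, c, h⟩ := form_of_preserves h2 α hα hX hY
    exact ⟨σ, c, Or.inl h⟩
  · obtain ⟨σ, c, h⟩ := form_of_preserves h2 (tIn.comp α)
      (fun A B e => hα (by simpa [tIn_tIn] using congrArg tIn e))
      (fun t => by obtain ⟨u, hu⟩ := hX t; exact ⟨-u, by rw [MonoidHom.comp_apply, hu, tIn_yt]⟩)
      (fun t => by obtain ⟨u, hu⟩ := hY t; exact ⟨-u, by rw [MonoidHom.comp_apply, hu, tIn_xt]⟩)
    exact ⟨σ, c, Or.inr fun A => by rw [← h A, MonoidHom.comp_apply, tIn_tIn]⟩
  · obtain ⟨a, ha⟩ := hX 1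
    obtain ⟨b, hb⟩ := hY 1
    exact absurd (by rw [ha, hb, ← yt_add, ← yt_add, add_comm]) hncomm

end CfsgLib.Char.SingleBond
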