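import Cfsg.Agent.Lib.Classical.SLBasic

/-!
# The two standard blocks in `SL₃` and their automorphisms
-/

set_option autoImplicit false

namespace CfsgLib.Char.SingleBond

open Matrix

variable (F : Type*) [Field F]

/-- `SL₂` -/
abbrev S2 := Matrix.SpecialLinearGroup (Fin 2) F
/-- `SL₃` -/
abbrev S3 := Matrix.SpecialLinearGroup (Fin 3) F

variable {F}

/-- upper unipotent element -/
def xt (t : F) : S2 F := ⟨!![1, t; 0, 1], by simp [det_fin_two]⟩
/-- lower unipotent element -/
def yt (t : F) : S2 F := ⟨!![1, 0; t, 1], by simp [det_fin_two]⟩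

theorem coe_xt (t : F) : (xt t : Matrix (Fin 2) (Fin 2) F) = !![1, t; 0, 1] := rfl
theorem coe_yt (t : F) : (yt t : Matrix (Fin 2) (Fin 2) F) = !![1, 0; t, 1] := rfl

theorem xt_add (s t : F) : xt (s + t) = xt s * xt t := by
  apply Subtype.ext
  show !![1, s + t; 0, 1] = !![1, s; 0, 1] * !![1, t; 0, 1]
  rw [mul_fin_two]
  simp [add_comm]

theorem yt_add (s t : F) : yt (s + t) = yt s * yt t := by
  apply Subtype.ext
  show !![1, 0; s + t, 1] = !![1, 0; s, 1] * !![1, 0; t, 1]
  rw [mul_fin_two]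
  simp

theorem xt_eq_transvection (t : F) :
    xt t = SpecialLinearGroup.transvection (show (0 : Fin 2) ≠ 1 by decide) t := by
  apply Subtype.ext
  rw [SpecialLinearGroup.transvection_coe, coe_xt]
  ext i j
  fin_cases i <;> fin_cases j <;> simp [Matrix.single]

theorem yt_eq_transvection (t : F) :
    yt t = SpecialLinearGroup.transvection (show (1 : Fin 2) ≠ 0 by decide) t := by
  apply Subtype.ext
  rw [SpecialLinearGroup.transvection_coe, coe_yt]
  ext i j
  fin_cases i <;> fin_cases j <;> simp [Matrix.single]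

/-- a subgroup with all `xt`, `yt` is everything -/
theorem s2_eq_top {H : Subgroup (S2 F)} (hx : ∀ t, xt t ∈ H) (hy : ∀ t, yt t ∈ H) : H = ⊤ := by
  refine CfsgLib.Classical.sl_eq_top H fun i j hij c => ?_
  fin_cases i <;> fin_cases j
  · exact absurd rfl hij
  · exact xt_eq_transvection c ▸ hx c
  · exact yt_eq_transvection c ▸ hy c
  · exact absurd rfl hij

theorem s2_hom_ext {M : Type*} [Group M] {f g : S2 F →* M} (hx : ∀ t, f (xt t) = g (xt t))
    (hy : ∀ t, f (yt t) = g (yt t)) : f = g :=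
  MonoidHom.eq_of_eqOn_dense (s := Set.range xt ∪ Set.range yt)
    (s2_eq_top (fun t => Subgroup.subset_closure (Or.inl ⟨t, rfl⟩))
      fun t => Subgroup.subset_closure (Or.inr ⟨t, rfl⟩))
    (by rintro _ (⟨t, rfl⟩ | ⟨t, rfl⟩); exacts [hx t, hy t])

/-- the block of the first two coordinates, as a map -/
def b12f (A : S2 F) : S3 F := ⟨!![A.1 0 0, A.1 0 1, 0; A.1 1 0, A.1 1 1, 0; 0, 0, 1], by
  have h := A.2
  rw [det_fin_two] at h
  simp [det_fin_three]
  linear_combination h⟩

/-- the block of the last two coordinates, as a map -/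
def b23f (A : S2 F) : S3 F := ⟨!![1, 0, 0; 0, A.1 0 0, A.1 0 1; 0, A.1 1 0, A.1 1 1], by
  have h := A.2
  rw [det_fin_two] at h
  simp [det_fin_three]
  linear_combination h⟩

theorem coe_b12f (A : S2 F) : (b12f A : Matrix (Fin 3) (Fin 3) F) =
    !![A.1 0 0, A.1 0 1, 0; A.1 1 0, A.1 1 1, 0; 0, 0, 1] := rfl
theorem coe_b23f (A : S2 F) : (b23f A : Matrix (Fin 3) (Fin 3) F) =
    !![1, 0, 0; 0, A.1 0 0, A.1 0 1; 0, A.1 1 0, A.1 1 1] := rfl

/-- the block of the first two coordinates -/
def b12 : S2 F →* S3 F where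
  toFun := b12f
  map_one' := by
    apply Subtype.ext; ext i j
    fin_cases i <;> fin_cases j <;> simp [coe_b12f]
  map_mul' A B := by
    apply Subtype.ext; ext i j
    fin_cases i <;> fin_cases j <;> simp [coe_b12f, Matrix.mul_apply, Fin.sum_univ_two, Fin.sum_univ_three]

/-- the block of the last two coordinates -/
def b23 : S2 F →* S3 F where
  toFun := b23f
  map_one' := by
    apply Subtype.ext; ext i j
    fin_cases i <;> fin_cases j <;> simp [coe_b23f]
  map_mul' A B := by
    apply Subtype.ext; ext i j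
    fin_cases i <;> fin_cases j <;> simp [coe_b23f, Matrix.mul_apply, Fin.sum_univ_two, Fin.sum_univ_three]

theorem coe_b12 (A : S2 F) : (b12 A : Matrix (Fin 3) (Fin 3) F) =
    !![A.1 0 0, A.1 0 1, 0; A.1 1 0, A.1 1 1, 0; 0, 0, 1] := rfl
theorem coe_b23 (A : S2 F) : (b23 A : Matrix (Fin 3) (Fin 3) F) =
    !![1, 0, 0; 0, A.1 0 0, A.1 0 1; 0, A.1 1 0, A.1 1 1] := rfl

theorem b12_injective : Function.Injective (b12 (F := F)) := fun A B h => by
  apply Subtype.ext; ext i j
  have e := fun a b => congrFun (congrFun (congrArg Subtype.val h) a) b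
  fin_cases i <;> fin_cases j
  exacts [e 0 0, e 0 1, e 1 0, e 1 1]

theorem b23_injective : Function.Injective (b23 (F := F)) := fun A B h => by
  apply Subtype.ext; ext i j
  have e := fun a b => congrFun (congrFun (congrArg Subtype.val h) a) b
  fin_cases i <;> fin_cases j
  exacts [e 1 1, e 1 2, e 2 1, e 2 2]

/-- conjugation by an element of the general linear group, as a map -/
noncomputable def glConjF {n : Type*} [Fintype n] [DecidableEq n] (g : GL n F)
    (A : Matrix.SpecialLinearGroup n F) : Matrix.SpecialLinearGroup n F :=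
  ⟨(g : Matrix n n F) * A.1 * ((g⁻¹ : GL n F) : Matrix n n F), by
    rw [det_mul, det_mul, A.2, mul_one, ← det_mul, ← Units.val_mul, mul_inv_cancel, Units.val_one,
      det_one]⟩

theorem coe_glConjF {n : Type*} [Fintype n] [DecidableEq n] (g : GL n F)
    (A : Matrix.SpecialLinearGroup n F) : (glConjF g A : Matrix n n F) =
      (g : Matrix n n F) * A.1 * ((g⁻¹ : GL n F) : Matrix n n F) := rfl

/-- conjugation by an element of the general linear group -/
noncomputable def glConj {n : Type*} [Fintype n] [DecidableEq n] (g : GL n F) :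
    Matrix.SpecialLinearGroup n F →* Matrix.SpecialLinearGroup n F where
  toFun := glConjF g
  map_one' := Subtype.ext (by simp [coe_glConjF])
  map_mul' A B := Subtype.ext (by simp [coe_glConjF, Matrix.mul_assoc])

theorem coe_glConj {n : Type*} [Fintype n] [DecidableEq n] (g : GL n F)
    (A : Matrix.SpecialLinearGroup n F) : (glConj g A : Matrix n n F) =
      (g : Matrix n n F) * A.1 * ((g⁻¹ : GL n F) : Matrix n n F) := rfl

theorem glConj_glConj {n : Type*} [Fintype n] [DecidableEq n] (g h : GL n F)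
    (A : Matrix.SpecialLinearGroup n F) : glConj g (glConj h A) = glConj (g * h) A :=
  Subtype.ext (by simp [coe_glConj, Matrix.mul_assoc])

theorem glConj_surjective {n : Type*} [Fintype n] [DecidableEq n] (g : GL n F) :
    Function.Surjective (glConj g) := fun A =>
  ⟨glConj g⁻¹ A, by rw [glConj_glConj, mul_inv_cancel]; exact Subtype.ext (by simp [coe_glConj])⟩

/-- conjugation of `SL₂` by `diag(-1, 1)`, as a map -/
def th2f (A : S2 F) : S2 F := ⟨!![A.1 0 0, -A.1 0 1; -A.1 1 0, A.1 1 1], by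
  have h := A.2
  rw [det_fin_two] at h
  simp [det_fin_two]; linear_combination h⟩

theorem coe_th2f (A : S2 F) : (th2f A : Matrix (Fin 2) (Fin 2) F) =
    !![A.1 0 0, -A.1 0 1; -A.1 1 0, A.1 1 1] := rfl

/-- conjugation of `SL₂` by `diag(-1, 1)` -/
def th2 : S2 F →* S2 F where
  toFun := th2f
  map_one' := by
    apply Subtype.ext; ext i j
    fin_cases i <;> fin_cases j <;> simp [coe_th2f]
  map_mul' A B := by
    apply Subtype.ext; ext i j
    fin_cases i <;> fin_cases j <;> simp [coe_th2f, Matrix.mul_apply, Fin.sum_univ_two] <;> ring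

theorem coe_th2 (A : S2 F) : (th2 A : Matrix (Fin 2) (Fin 2) F) =
    !![A.1 0 0, -A.1 0 1; -A.1 1 0, A.1 1 1] := rfl

theorem th2_xt (t : F) : th2 (xt t) = xt (-t) := by
  apply Subtype.ext; ext i j
  fin_cases i <;> fin_cases j <;> simp [coe_th2, coe_xt]

theorem th2_yt (t : F) : th2 (yt t) = yt (-t) := by
  apply Subtype.ext; ext i j
  fin_cases i <;> fin_cases j <;> simp [coe_th2, coe_yt]

/-- the element `-1` -/
def m1 : S2 F := ⟨!![-1, 0; 0, -1], by simp [det_fin_two]⟩

theorem coe_m1 : ((m1 : S2 F) : Matrix (Fin 2) (Fin 2) F) = !![-1, 0; 0, -1] := rfl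

theorem b12_m1_conj (A : S2 F) : b12 m1 * b23 A * (b12 m1)⁻¹ = b23 (th2 A) := by
  rw [mul_inv_eq_iff_eq_mul]
  apply Subtype.ext
  show (b12 m1).1 * (b23 A).1 = (b23 (th2 A)).1 * (b12 m1).1
  ext i j
  fin_cases i <;> fin_cases j <;>
    simp [coe_b12, coe_b23, Matrix.mul_apply, Fin.sum_univ_three, coe_th2, coe_m1]

theorem b23_m1_conj (A : S2 F) : b23 m1 * b12 A * (b23 m1)⁻¹ = b12 (th2 A) := by
  rw [mul_inv_eq_iff_eq_mul]
  apply Subtype.ext
  show (b23 m1).1 * (b12 A).1 = (b12 (th2 A)).1 * (b23 m1).1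
  ext i j
  fin_cases i <;> fin_cases j <;>
    simp [coe_b12, coe_b23, Matrix.mul_apply, Fin.sum_univ_three, coe_th2, coe_m1]

/-- the diagonal element of `GL₂` with entries `c`, `1` -/
noncomputable def d2 (c : Fˣ) : GL (Fin 2) F :=
  GeneralLinearGroup.mkOfDetNeZero !![(c : F), 0; 0, 1] (by simp [det_fin_two])

/-- the diagonal element of `GL₃` with entries `c`, `1`, `1` -/
noncomputable def d3 (c : Fˣ) : GL (Fin 3) F :=
  GeneralLinearGroup.mkOfDetNeZero !![(c : F), 0, 0; 0, 1, 0; 0, 0, 1] (by simp [det_fin_three])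

theorem glConj_val_eq {n : Type*} [Fintype n] [DecidableEq n] {g : GL n F}
    {A : Matrix.SpecialLinearGroup n F} {B : Matrix n n F}
    (h : (g : Matrix n n F) * A.1 = B * (g : Matrix n n F)) : (glConj g A).1 = B := by
  show (g : Matrix n n F) * A.1 * ((g⁻¹ : GL n F) : Matrix n n F) = B
  rw [h, Matrix.mul_assoc, ← Units.val_mul, mul_inv_cancel, Units.val_one, Matrix.mul_one]

theorem glConj_d2 (c : Fˣ) (A : S2 F) : (glConj (d2 c) A).1 =
    !![A.1 0 0, (c : F) * A.1 0 1; (c : F)⁻¹ * A.1 1 0, A.1 1 1] := by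
  refine glConj_val_eq ?_
  simp only [d2, GeneralLinearGroup.mkOfDetNeZero]
  ext i j
  fin_cases i <;> fin_cases j <;> simp [Matrix.mul_apply, Fin.sum_univ_two] <;> field_simp

theorem glConj_d3_b12 (c : Fˣ) (A : S2 F) : glConj (d3 c) (b12 A) = b12 (glConj (d2 c) A) := by
  apply Subtype.ext
  refine glConj_val_eq ?_
  simp only [coe_b12, glConj_d2, d3, GeneralLinearGroup.mkOfDetNeZero]
  ext i j
  fin_cases i <;> fin_cases j <;> simp [Matrix.mul_apply, Fin.sum_univ_three] <;> field_simp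

theorem glConj_d3_b23 (c : Fˣ) (A : S2 F) : glConj (d3 c) (b23 A) = b23 A := by
  apply Subtype.ext
  refine glConj_val_eq ?_
  simp only [coe_b23, d3, GeneralLinearGroup.mkOfDetNeZero]
  ext i j
  fin_cases i <;> fin_cases j <;> simp [Matrix.mul_apply, Fin.sum_univ_three]

/-- the transpose inverse -/
def tIn {n : Type*} [Fintype n] [DecidableEq n] :
    Matrix.SpecialLinearGroup n F →* Matrix.SpecialLinearGroup n F where
  toFun A := (A⁻¹).transpose
  map_one' := Subtype.ext (by
    show ((1⁻¹ : Matrix.SpecialLinearGroup n F).1)ᵀ = 1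
    rw [inv_one]; exact Matrix.transpose_one)
  map_mul' A B := Subtype.ext (by
    show (((A * B)⁻¹ : Matrix.SpecialLinearGroup n F).1)ᵀ =
      ((A⁻¹ : Matrix.SpecialLinearGroup n F).1)ᵀ * ((B⁻¹ : Matrix.SpecialLinearGroup n F).1)ᵀ
    rw [_root_.mul_inv_rev, ← Matrix.transpose_mul]
    rfl)

theorem tIn_tIn {n : Type*} [Fintype n] [DecidableEq n] (A : Matrix.SpecialLinearGroup n F) :
    tIn (tIn A) = A := by
  have h : (tIn A)⁻¹ = tIn A⁻¹ := (map_inv tIn A).symm
  show ((tIn A)⁻¹).transpose = A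
  rw [h]
  show ((A⁻¹⁻¹).transpose).transpose = A
  rw [inv_inv]
  exact Subtype.ext (Matrix.transpose_transpose _)

theorem tIn_val (A : S2 F) : (tIn A).1 = !![A.1 1 1, -A.1 1 0; -A.1 0 1, A.1 0 0] := by
  show ((A⁻¹ : S2 F).1)ᵀ = _
  show (A.1.adjugate)ᵀ = _
  rw [adjugate_fin_two]
  ext i j
  fin_cases i <;> fin_cases j <;> simp

theorem tIn_b12 (A : S2 F) : tIn (b12 A) = b12 (tIn A) := by
  show ((b12 A)⁻¹).transpose = b12 ((A⁻¹).transpose)
  rw [← map_inv]
  generalize A⁻¹ = B
  apply Subtype.ext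
  ext i j
  simp only [SpecialLinearGroup.transpose, coe_b12, Matrix.transpose_apply]
  fin_cases i <;> fin_cases j <;> rfl

theorem tIn_b23 (A : S2 F) : tIn (b23 A) = b23 (tIn A) := by
  show ((b23 A)⁻¹).transpose = b23 ((A⁻¹).transpose)
  rw [← map_inv]
  generalize A⁻¹ = B
  apply Subtype.ext
  ext i j
  simp only [SpecialLinearGroup.transpose, coe_b23, Matrix.transpose_apply]
  fin_cases i <;> fin_cases j <;> rfl

/-- a field automorphism on a special linear group -/
def fmapS {n : Type*} [Fintype n] [DecidableEq n] (σ : F ≃+* F) :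
    Matrix.SpecialLinearGroup n F →* Matrix.SpecialLinearGroup n F :=
  Matrix.SpecialLinearGroup.map σ.toRingHom

theorem fmapS_surjective {n : Type*} [Fintype n] [DecidableEq n] (σ : F ≃+* F) :
    Function.Surjective (fmapS (n := n) σ) := fun A =>
  ⟨fmapS σ.symm A, Subtype.ext (Matrix.ext fun i j => by simp [fmapS])⟩

theorem fmapS_b12 (σ : F ≃+* F) (A : S2 F) : fmapS σ (b12 A) = b12 (fmapS σ A) := by
  apply Subtype.ext; ext i j
  fin_cases i <;> fin_cases j <;> simp [fmapS, coe_b12]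

theorem fmapS_b23 (σ : F ≃+* F) (A : S2 F) : fmapS σ (b23 A) = b23 (fmapS σ A) := by
  apply Subtype.ext; ext i j
  fin_cases i <;> fin_cases j <;> simp [fmapS, coe_b23]

theorem fmapS_m1 (σ : F ≃+* F) : fmapS σ (m1 : S2 F) = m1 := by
  apply Subtype.ext; ext i j
  fin_cases i <;> fin_cases j <;> simp [fmapS, coe_m1]

theorem glConj_d2_m1 (c : Fˣ) : glConj (d2 c) (m1 : S2 F) = m1 := by
  apply Subtype.ext
  rw [glConj_d2]
  simp [coe_m1]

theorem tIn_m1 : tIn (m1 : S2 F) = m1 := by
  apply Subtype.ext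
  rw [tIn_val]
  simp [coe_m1]

theorem glConj_d2_th2 (c : Fˣ) (A : S2 F) : th2 (glConj (d2 c) A) = glConj (d2 c) (th2 A) := by
  apply Subtype.ext
  rw [glConj_d2, coe_th2, glConj_d2]
  simp [coe_th2]

end CfsgLib.Char.SingleBond
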