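import Cfsg.Agent.Lib.Lie.SL2Rel
import Cfsg.Agent.Lib.Char.SingleBond.Auto

/-!
# Steinberg relations give a homomorphism from `SL_n` over a finite field
-/

set_option autoImplicit false

namespace CfsgLib.Char.SingleBond

open Matrix

variable {F : Type*} [Field F] {H : Type*} [Group H] {n : ℕ}

/-- the Steinberg relations -/
structure StRel (X : Fin n → Fin n → F → H) : Prop where
  add : ∀ {i j}, i ≠ j → ∀ t u, X i j (t + u) = X i j t * X i j u
  comm : ∀ {i j k l}, i ≠ j → k ≠ l → i ≠ l → j ≠ k → ∀ t u, X i j t * X k l u = X k l u * X i j t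
  prod : ∀ {i j k}, i ≠ j → j ≠ k → i ≠ k → ∀ t u,
    X i j t * X j k u * (X i j t)⁻¹ * (X j k u)⁻¹ = X i k (t * u)

/-- the relation of rank one -/
def WRel (X : Fin n → Fin n → F → H) : Prop :=
  ∀ a b, a ≠ b → ∀ t u : F, t ≠ 0 →
    X a b t * X b a (-t⁻¹) * X a b t * X a b u * (X a b t * X b a (-t⁻¹) * X a b t)⁻¹ =
      X b a (-(t⁻¹ ^ 2 * u))

namespace StRel

variable {X : Fin n → Fin n → F → H} (R : StRel X)

include R

theorem zero {i j : Fin n} (h : i ≠ j) : X i j 0 = 1 := by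
  have := R.add h 0 0
  rw [add_zero] at this
  exact left_eq_mul.1 this

theorem neg {i j : Fin n} (h : i ≠ j) (t : F) : (X i j t)⁻¹ = X i j (-t) := by
  rw [inv_eq_iff_mul_eq_one, ← R.add h, add_neg_cancel, R.zero h]

theorem fix {i j k l : Fin n} (hij : i ≠ j) (hkl : k ≠ l) (hil : i ≠ l) (hjk : j ≠ k) (t u : F) :
    X i j t * X k l u * (X i j t)⁻¹ = X k l u := by
  rw [R.comm hij hkl hil hjk, mul_inv_cancel_right]

theorem move_right {i j k : Fin n} (hij : i ≠ j) (hjk : j ≠ k) (hik : i ≠ k) (t u : F) :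
    X i j t * X j k u * (X i j t)⁻¹ = X i k (t * u) * X j k u := by
  rw [← R.prod hij hjk hik]
  group

theorem move_left {i j k : Fin n} (hij : i ≠ j) (hjk : j ≠ k) (hik : i ≠ k) (t u : F) :
    X j k u * X i j t * (X j k u)⁻¹ = X i k (-(u * t)) * X i j t := by
  have h := R.prod hij hjk hik (t := t) (u := u)
  rw [← R.neg hik, mul_comm u t, ← h]
  group

/-- conjugation of a column pair by the two root elements -/
theorem pair_col {a b c : Fin n} (hab : a ≠ b) (hac : a ≠ c) (hbc : b ≠ c) (t p q : F) :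
    X a b t * (X a c p * X b c q) * (X a b t)⁻¹ = X a c (p + t * q) * X b c q := by
  rw [show ∀ g x y : H, g * (x * y) * g⁻¹ = (g * x * g⁻¹) * (g * y * g⁻¹) from fun g x y => by group,
    R.fix hab hac hac hab.symm, R.move_right hab hbc hac, ← mul_assoc, ← R.add hac]

theorem pair_col' {a b c : Fin n} (hab : a ≠ b) (hac : a ≠ c) (hbc : b ≠ c) (t p q : F) :
    X b a t * (X a c p * X b c q) * (X b a t)⁻¹ = X a c p * X b c (q + t * p) := by
  rw [R.comm hac hbc hac hbc.symm, R.pair_col hab.symm hbc hac, R.comm hbc hac hbc hac.symm]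

/-- conjugation of a row pair by the two root elements -/
theorem pair_row {a b c : Fin n} (hab : a ≠ b) (hac : a ≠ c) (hbc : b ≠ c) (t p q : F) :
    X a b t * (X c a p * X c b q) * (X a b t)⁻¹ = X c a p * X c b (q - t * p) := by
  rw [show ∀ g x y : H, g * (x * y) * g⁻¹ = (g * x * g⁻¹) * (g * y * g⁻¹) from fun g x y => by group,
    R.move_left hac.symm hab hbc.symm, R.fix hab hbc.symm hab hbc,
    R.comm hbc.symm hac.symm hac.symm hbc, mul_assoc, ← R.add hbc.symm]
  congr 2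
  ring

theorem pair_row' {a b c : Fin n} (hab : a ≠ b) (hac : a ≠ c) (hbc : b ≠ c) (t p q : F) :
    X b a t * (X c a p * X c b q) * (X b a t)⁻¹ = X c a (p - t * q) * X c b q := by
  rw [R.comm hac.symm hbc.symm hbc.symm hac, R.pair_row hab.symm hbc hac,
    R.comm hbc.symm hac.symm hac.symm hbc]

/-- with three indices the rank one relation follows -/
theorem wrel (hn : 3 ≤ n) : WRel X := by
  intro a b hab t u ht
  obtain ⟨c, hca, hcb⟩ : ∃ c, c ≠ a ∧ c ≠ b := by
    by_contra hne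
    push Not at hne
    have hsub : (Finset.univ : Finset (Fin n)) ⊆ {a, b} := fun x _ => by
      by_cases h : x = a
      · simp [h]
      · simp [hne x h]
    have := (Finset.card_le_card hsub).trans Finset.card_le_two
    rw [Finset.card_univ, Fintype.card_fin] at this
    omega
  set w := X a b t * X b a (-t⁻¹) * X a b t with hw
  have htt : t * t⁻¹ = 1 := mul_inv_cancel₀ ht
  have hC : ∀ p q : F, w * (X a c p * X b c q) * w⁻¹ = X a c (t * q) * X b c (-(t⁻¹ * p)) := by
    intro p q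
    rw [show ∀ x y m : H, x * y * x * m * (x * y * x)⁻¹ = x * (y * (x * m * x⁻¹) * y⁻¹) * x⁻¹ from
      fun x y m => by group, R.pair_col hab hca.symm hcb.symm, R.pair_col' hab hca.symm hcb.symm,
      R.pair_col hab hca.symm hcb.symm]
    congr 2
    · linear_combination -(p + t * q) * htt
    · linear_combination -q * htt
  have hR : ∀ p q : F, w * (X c a p * X c b q) * w⁻¹ = X c a (t⁻¹ * q) * X c b (-(t * p)) := by
    intro p q
    rw [show ∀ x y m : H, x * y * x * m * (x * y * x)⁻¹ = x * (y * (x * m * x⁻¹) * y⁻¹) * x⁻¹ from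
      fun x y m => by group, R.pair_row hab hca.symm hcb.symm, R.pair_row' hab hca.symm hcb.symm,
      R.pair_row hab hca.symm hcb.symm]
    congr 2
    · linear_combination -p * htt
    · linear_combination (-q + t * p) * htt
  have h1 : w * X a c u * w⁻¹ = X b c (-(t⁻¹ * u)) := by
    have := hC u 0
    rwa [R.zero hcb.symm, mul_one, mul_zero, R.zero hca.symm, one_mul] at this
  have h2 : w * X c b 1 * w⁻¹ = X c a (t⁻¹) := by
    have := hR 0 1
    rwa [R.zero hca, one_mul, mul_one, mul_zero, neg_zero, R.zero hcb, mul_one] at this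
  have h3 := R.prod hca.symm hcb hab (t := u) (u := (1 : F))
  rw [mul_one] at h3
  rw [← h3, show ∀ g x y : H, g * (x * y * x⁻¹ * y⁻¹) * g⁻¹ =
    (g * x * g⁻¹) * (g * y * g⁻¹) * (g * x * g⁻¹)⁻¹ * (g * y * g⁻¹)⁻¹ from fun g x y => by group, h1, h2,
    R.prod hcb.symm hca hab.symm]
  congr 1
  ring

/-- the family of a pair -/
def fam (W : WRel X) {a b : Fin n} (h : a ≠ b) : CfsgLib.Lie.SL2Rel.Fam F H where
  x := X a b
  y := X b a
  x_add := R.add h
  y_add := R.add h.symm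
  rel := fun t u ht => W a b h t u ht

variable [Finite F] (W : WRel X)

/-- the homomorphism of a pair -/
noncomputable def chi {a b : Fin n} (h : a ≠ b) : S2 F →* H :=
  (R.fam W h).hom (R.fam W h).mult_of_finite

theorem chi_xt {a b : Fin n} (h : a ≠ b) (t : F) : R.chi W h (xt t) = X a b t :=
  (R.fam W h).hom_upper _ t

theorem chi_yt {a b : Fin n} (h : a ≠ b) (t : F) : R.chi W h (yt t) = X b a t :=
  (R.fam W h).hom_lower _ t

theorem chi_range {a b : Fin n} (h : a ≠ b) (g : S2 F) {S : Subgroup H} (hx : ∀ t, X a b t ∈ S)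
    (hy : ∀ t, X b a t ∈ S) : R.chi W h g ∈ S := by
  have : S.comap (R.chi W h) = ⊤ := s2_eq_top (fun t => by simpa [R.chi_xt] using hx t)
    (fun t => by simpa [R.chi_yt] using hy t)
  have hg : g ∈ S.comap (R.chi W h) := by rw [this]; exact Subgroup.mem_top g
  exact hg

theorem chi_fix {a b k l : Fin n} (h : a ≠ b) (hkl : k ≠ l) (hka : k ≠ a) (hkb : k ≠ b) (hla : l ≠ a)
    (hlb : l ≠ b) (g : S2 F) (u : F) : R.chi W h g * X k l u * (R.chi W h g)⁻¹ = X k l u := by
  have hm : R.chi W h g ∈ Subgroup.centralizer ({X k l u} : Set H) := R.chi_range W h g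
    (fun t => Subgroup.mem_centralizer_singleton_iff.2 (R.comm h hkl hla.symm hkb.symm t u))
    (fun t => Subgroup.mem_centralizer_singleton_iff.2 (R.comm h.symm hkl hlb.symm hka.symm t u))
  rw [Subgroup.mem_centralizer_singleton_iff.1 hm, mul_inv_cancel_right]

theorem chi_col {a b c : Fin n} (hab : a ≠ b) (hac : a ≠ c) (hbc : b ≠ c) (g : S2 F) : ∀ p q : F,
    R.chi W hab g * (X a c p * X b c q) * (R.chi W hab g)⁻¹ =
      X a c (g.1 0 0 * p + g.1 0 1 * q) * X b c (g.1 1 0 * p + g.1 1 1 * q) := by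
  let S : Subgroup (S2 F) := Subgroup.closure (Set.range xt ∪ Set.range yt)
  have hS : S = ⊤ := s2_eq_top (fun t => Subgroup.subset_closure (Or.inl ⟨t, rfl⟩))
    fun t => Subgroup.subset_closure (Or.inr ⟨t, rfl⟩)
  have step : ∀ x ∈ Set.range (xt (F := F)) ∪ Set.range yt, ∀ p q : F,
      R.chi W hab x * (X a c p * X b c q) * (R.chi W hab x)⁻¹ =
        X a c (x.1 0 0 * p + x.1 0 1 * q) * X b c (x.1 1 0 * p + x.1 1 1 * q) := by
    rintro _ (⟨t, rfl⟩ | ⟨t, rfl⟩) p q
    · rw [R.chi_xt, R.pair_col hab hac hbc, coe_xt]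
      simp
    · rw [R.chi_yt, R.pair_col' hab hac hbc, coe_yt]
      simp [add_comm]
  have comp : ∀ x y : S2 F, (∀ p q : F, R.chi W hab x * (X a c p * X b c q) * (R.chi W hab x)⁻¹ =
      X a c (x.1 0 0 * p + x.1 0 1 * q) * X b c (x.1 1 0 * p + x.1 1 1 * q)) →
      (∀ p q : F, R.chi W hab y * (X a c p * X b c q) * (R.chi W hab y)⁻¹ =
      X a c (y.1 0 0 * p + y.1 0 1 * q) * X b c (y.1 1 0 * p + y.1 1 1 * q)) →
      ∀ p q : F, R.chi W hab (x * y) * (X a c p * X b c q) * (R.chi W hab (x * y))⁻¹ =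
      X a c ((x * y).1 0 0 * p + (x * y).1 0 1 * q) * X b c ((x * y).1 1 0 * p + (x * y).1 1 1 * q) := by
    intro x y hx hy p q
    have e : ∀ i j, (x * y).1 i j = x.1 i 0 * y.1 0 j + x.1 i 1 * y.1 1 j := fun i j => by
      show (x.1 * y.1) i j = _
      rw [Matrix.mul_apply, Fin.sum_univ_two]
    rw [map_mul, show ∀ g h m : H, g * h * m * (g * h)⁻¹ = g * (h * m * h⁻¹) * g⁻¹ from fun g h m => by group,
      hy, hx, e, e, e, e]
    congr 2 <;> ring
  have hg : g ∈ S := hS ▸ Subgroup.mem_top g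
  induction hg using Subgroup.closure_induction_left with
  | one => intro p q; simp
  | mul_left x hx y _ ih => exact comp x y (step x hx) ih
  | inv_mul_cancel x hx y _ ih =>
    refine comp x⁻¹ y (step x⁻¹ ?_) ih
    rcases hx with ⟨t, rfl⟩ | ⟨t, rfl⟩
    · exact Or.inl ⟨-t, (xt_inv t).symm⟩
    · exact Or.inr ⟨-t, (yt_inv t).symm⟩

theorem chi_row {a b c : Fin n} (hab : a ≠ b) (hac : a ≠ c) (hbc : b ≠ c) (g : S2 F) : ∀ p q : F,
    R.chi W hab g * (X c a p * X c b q) * (R.chi W hab g)⁻¹ =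
      X c a (g.1 1 1 * p - g.1 1 0 * q) * X c b (g.1 0 0 * q - g.1 0 1 * p) := by
  let S : Subgroup (S2 F) := Subgroup.closure (Set.range xt ∪ Set.range yt)
  have hS : S = ⊤ := s2_eq_top (fun t => Subgroup.subset_closure (Or.inl ⟨t, rfl⟩))
    fun t => Subgroup.subset_closure (Or.inr ⟨t, rfl⟩)
  have step : ∀ x ∈ Set.range (xt (F := F)) ∪ Set.range yt, ∀ p q : F,
      R.chi W hab x * (X c a p * X c b q) * (R.chi W hab x)⁻¹ =
        X c a (x.1 1 1 * p - x.1 1 0 * q) * X c b (x.1 0 0 * q - x.1 0 1 * p) := by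
    rintro _ (⟨t, rfl⟩ | ⟨t, rfl⟩) p q
    · rw [R.chi_xt, R.pair_row hab hac hbc, coe_xt]
      simp
    · rw [R.chi_yt, R.pair_row' hab hac hbc, coe_yt]
      simp
  have comp : ∀ x y : S2 F, (∀ p q : F, R.chi W hab x * (X c a p * X c b q) * (R.chi W hab x)⁻¹ =
      X c a (x.1 1 1 * p - x.1 1 0 * q) * X c b (x.1 0 0 * q - x.1 0 1 * p)) →
      (∀ p q : F, R.chi W hab y * (X c a p * X c b q) * (R.chi W hab y)⁻¹ =
      X c a (y.1 1 1 * p - y.1 1 0 * q) * X c b (y.1 0 0 * q - y.1 0 1 * p)) →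
      ∀ p q : F, R.chi W hab (x * y) * (X c a p * X c b q) * (R.chi W hab (x * y))⁻¹ =
      X c a ((x * y).1 1 1 * p - (x * y).1 1 0 * q) * X c b ((x * y).1 0 0 * q - (x * y).1 0 1 * p) := by
    intro x y hx hy p q
    have e : ∀ i j, (x * y).1 i j = x.1 i 0 * y.1 0 j + x.1 i 1 * y.1 1 j := fun i j => by
      show (x.1 * y.1) i j = _
      rw [Matrix.mul_apply, Fin.sum_univ_two]
    rw [map_mul, show ∀ g h m : H, g * h * m * (g * h)⁻¹ = g * (h * m * h⁻¹) * g⁻¹ from fun g h m => by group,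
      hy, hx, e, e, e, e]
    congr 2 <;> ring
  have hg : g ∈ S := hS ▸ Subgroup.mem_top g
  induction hg using Subgroup.closure_induction_left with
  | one => intro p q; simp
  | mul_left x hx y _ ih => exact comp x y (step x hx) ih
  | inv_mul_cancel x hx y _ ih =>
    refine comp x⁻¹ y (step x⁻¹ ?_) ih
    rcases hx with ⟨t, rfl⟩ | ⟨t, rfl⟩
    · exact Or.inl ⟨-t, (xt_inv t).symm⟩
    · exact Or.inr ⟨-t, (yt_inv t).symm⟩

theorem chi_col_fst {a b c : Fin n} (hab : a ≠ b) (hac : a ≠ c) (hbc : b ≠ c) (g : S2 F) (p : F) :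
    R.chi W hab g * X a c p * (R.chi W hab g)⁻¹ = X a c (g.1 0 0 * p) * X b c (g.1 1 0 * p) := by
  have := R.chi_col W hab hac hbc g p 0
  simpa [R.zero hbc] using this

theorem chi_col_snd {a b c : Fin n} (hab : a ≠ b) (hac : a ≠ c) (hbc : b ≠ c) (g : S2 F) (q : F) :
    R.chi W hab g * X b c q * (R.chi W hab g)⁻¹ = X a c (g.1 0 1 * q) * X b c (g.1 1 1 * q) := by
  have := R.chi_col W hab hac hbc g 0 q
  simpa [R.zero hac] using this

theorem chi_row_fst {a b c : Fin n} (hab : a ≠ b) (hac : a ≠ c) (hbc : b ≠ c) (g : S2 F) (p : F) :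
    R.chi W hab g * X c a p * (R.chi W hab g)⁻¹ = X c a (g.1 1 1 * p) * X c b (-(g.1 0 1 * p)) := by
  have := R.chi_row W hab hac hbc g p 0
  simpa [R.zero hbc.symm] using this

theorem chi_row_snd {a b c : Fin n} (hab : a ≠ b) (hac : a ≠ c) (hbc : b ≠ c) (g : S2 F) (q : F) :
    R.chi W hab g * X c b q * (R.chi W hab g)⁻¹ = X c a (-(g.1 1 0 * q)) * X c b (g.1 0 0 * q) := by
  have := R.chi_row W hab hac hbc g 0 q
  simpa [R.zero hac.symm] using this

end StRel

end CfsgLib.Char.SingleBond
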