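import Cfsg.Agent.Lib.Char.SingleBond.SteinbergMain

/-!
# The Steinberg presentation of `SL_n`, `n ≥ 3`, over a finite field
-/

set_option autoImplicit false

namespace CfsgLib.Char.SingleBond

open Matrix

universe uF uH

variable {F : Type uF} [Field F] {n : ℕ}

/-- the transvections, as a family -/
def slX (i j : Fin n) (t : F) : Matrix.SpecialLinearGroup (Fin n) F :=
  if h : i ≠ j then Matrix.SpecialLinearGroup.transvection h t else 1

theorem slX_eq {i j : Fin n} (h : i ≠ j) (t : F) :
    slX i j t = Matrix.SpecialLinearGroup.transvection h t := dif_pos h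

theorem coe_slX {i j : Fin n} (h : i ≠ j) (t : F) :
    (slX i j t : Matrix (Fin n) (Fin n) F) = 1 + Matrix.single i j t := by
  rw [slX_eq h]; rfl

theorem stRel_slX : StRel (slX (F := F) (n := n)) where
  add {i j} h t u := by
    apply Subtype.ext
    show (slX i j (t + u)).1 = (slX i j t).1 * (slX i j u).1
    rw [coe_slX h, coe_slX h, coe_slX h]
    simp [Matrix.add_mul, Matrix.mul_add, Matrix.single_mul_single_of_ne _ _ _ _ (Ne.symm h),
      Matrix.single_add, add_assoc]
  comm {i j k l} hij hkl hil hjk t u := by
    apply Subtype.ext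
    show (slX i j t).1 * (slX k l u).1 = (slX k l u).1 * (slX i j t).1
    rw [coe_slX hij, coe_slX hkl]
    simp [Matrix.add_mul, Matrix.mul_add, Matrix.single_mul_single_of_ne _ _ _ _ hjk,
      Matrix.single_mul_single_of_ne _ _ _ _ hil.symm, add_comm, add_left_comm]
  prod {i j k} hij hjk hik t u := by
    rw [mul_inv_eq_iff_eq_mul, mul_inv_eq_iff_eq_mul]
    apply Subtype.ext
    show (slX i j t).1 * (slX j k u).1 = (slX i k (t * u)).1 * (slX j k u).1 * (slX i j t).1
    rw [coe_slX hij, coe_slX hjk, coe_slX hik]
    simp [Matrix.add_mul, Matrix.mul_add, Matrix.single_mul_single_same,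
      Matrix.single_mul_single_of_ne _ _ _ _ hjk.symm, Matrix.single_mul_single_of_ne _ _ _ _ hik.symm,
      Matrix.single_mul_single_of_ne _ _ _ _ hij.symm]
    abel

variable [Finite F]

/-- the homomorphism given by the relations, by induction on the dimension -/
theorem exists_hom_aux : ∀ n : ℕ, 2 ≤ n → ∀ {H : Type (max uF uH)} [Group H] (X : Fin n → Fin n → F → H),
    StRel X → WRel X → ∃ f : Matrix.SpecialLinearGroup (Fin n) F →* H,
      ∀ i j (h : i ≠ j) (t : F), f (Matrix.SpecialLinearGroup.transvection h t) = X i j t := by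
  intro n
  induction n with
  | zero => intro h; omega
  | succ m ih =>
    intro hn H _ X R W
    rcases eq_or_lt_of_le hn with hm | hm
    · obtain rfl : m = 1 := by omega
      have h01 : (0 : Fin 2) ≠ 1 := by decide
      refine ⟨R.chi W h01, fun i j h t => ?_⟩
      fin_cases i <;> fin_cases j
      · exact absurd rfl h
      · have e := R.chi_xt W h01 t
        rw [xt_eq_transvection] at e
        exact e
      · have e := R.chi_yt W h01 t
        rw [yt_eq_transvection] at e
        exact e
      · exact absurd rfl h
    · let Γ : Subgroup (Matrix.SpecialLinearGroup (Fin (m + 1)) F × H) :=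
        Subgroup.closure {x | ∃ i j t, i ≠ j ∧ x = (slX i j t, X i j t)}
      let X' : Fin (m + 1) → Fin (m + 1) → F → Γ := fun i j t =>
        if h : i ≠ j then ⟨(slX i j t, X i j t), Subgroup.subset_closure ⟨i, j, t, h, rfl⟩⟩ else 1
      have hX : ∀ {i j}, i ≠ j → ∀ t, (X' i j t : Matrix.SpecialLinearGroup (Fin (m + 1)) F × H) =
          (slX i j t, X i j t) := fun {i j} h t => by simp [X', h]
      have R' : StRel X' :=
        { add := fun {i j} h t u => Subtype.ext (by
            simp only [Subgroup.coe_mul, hX h, Prod.mk_mul_mk, stRel_slX.add h, R.add h])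
          comm := fun {i j k l} hij hkl hil hjk t u => Subtype.ext (by
            simp only [Subgroup.coe_mul, hX hij, hX hkl, Prod.mk_mul_mk, stRel_slX.comm hij hkl hil hjk,
              R.comm hij hkl hil hjk])
          prod := fun {i j k} hij hjk hik t u => Subtype.ext (by
            simp only [Subgroup.coe_mul, Subgroup.coe_inv, hX hij, hX hjk, hX hik, Prod.inv_mk, Prod.mk_mul_mk,
              stRel_slX.prod hij hjk hik, R.prod hij hjk hik]) }
      have W' : WRel X' := R'.wrel (by omega)
      obtain ⟨θ, hθ⟩ := ih (by omega) (fun i j => X' i.succ j.succ)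
        { add := fun {i j} h => R'.add fun e => h (Fin.succ_injective _ e)
          comm := fun {i j k l} a b c d => R'.comm (fun e => a (Fin.succ_injective _ e))
            (fun e => b (Fin.succ_injective _ e)) (fun e => c (Fin.succ_injective _ e))
            fun e => d (Fin.succ_injective _ e)
          prod := fun {i j k} a b c => R'.prod (fun e => a (Fin.succ_injective _ e))
            (fun e => b (Fin.succ_injective _ e)) fun e => c (Fin.succ_injective _ e) }
        (fun a b hab => W' _ _ fun e => hab (Fin.succ_injective _ e))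
      let π : Γ →* Matrix.SpecialLinearGroup (Fin (m + 1)) F := (MonoidHom.fst _ _).comp Γ.subtype
      have hπ : ∀ i j (h : i ≠ j) (t : F), π (X' i j t) = Matrix.SpecialLinearGroup.transvection h t :=
        fun i j h t => by
          show (X' i j t : Matrix.SpecialLinearGroup (Fin (m + 1)) F × H).1 = _
          rw [hX h, slX_eq h]
      let S : Stp Γ F m :=
        { X := X', R := R', W := W', π := π, hπ := hπ, θ := θ, hθ := hθ }
      have hgen : ∀ x : Γ, x ∈ Subgroup.closure {x | ∃ i j t, i ≠ j ∧ x = S.X i j t} := by
        intro x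
        have hle : Γ ≤ (Subgroup.closure {x | ∃ i j t, i ≠ j ∧ x = S.X i j t}).map Γ.subtype := by
          refine (Subgroup.closure_le _).2 ?_
          rintro _ ⟨i, j, t, h, rfl⟩
          exact ⟨X' i j t, Subgroup.subset_closure ⟨i, j, t, h, rfl⟩, hX h t⟩
        obtain ⟨y, hy, e⟩ := hle x.2
        rwa [show x = y from Subtype.ext e.symm]
      have hinj : Function.Injective π := S.injective (by omega) hgen
      have hsurj : Function.Surjective π := by
        rw [← MonoidHom.range_eq_top]
        exact CfsgLib.Classical.sl_eq_top _ fun i j h c => ⟨X' i j c, hπ i j h c⟩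
      let E := MulEquiv.ofBijective π ⟨hinj, hsurj⟩
      refine ⟨((MonoidHom.snd _ _).comp Γ.subtype).comp E.symm.toMonoidHom, fun i j h t => ?_⟩
      have e : E.symm (Matrix.SpecialLinearGroup.transvection h t) = X' i j t := by
        rw [MulEquiv.symm_apply_eq]; exact (hπ i j h t).symm
      show ((E.symm (Matrix.SpecialLinearGroup.transvection h t) : Γ) :
        Matrix.SpecialLinearGroup (Fin (m + 1)) F × H).2 = _
      rw [e, hX h]

/-- Steinberg relations give a homomorphism from the special linear group -/
theorem StRel.exists_hom (hn : 3 ≤ n) {H : Type uH} [Group H] {X : Fin n → Fin n → F → H} (R : StRel X) :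
    ∃ f : Matrix.SpecialLinearGroup (Fin n) F →* H,
      ∀ i j (h : i ≠ j) (t : F), f (Matrix.SpecialLinearGroup.transvection h t) = X i j t :=
  by
  let e : ULift.{uF} H ≃* H := MulEquiv.ulift
  let X' : Fin n → Fin n → F → ULift.{uF} H := fun i j t => e.symm (X i j t)
  have R' : StRel X' :=
    { add := fun {i j} h t u => by simp only [X', ← map_mul, R.add h]
      comm := fun {i j k l} a b c d t u => by simp only [X', ← map_mul, R.comm a b c d]
      prod := fun {i j k} a b c t u => by simp only [X', ← map_mul, ← map_inv, R.prod a b c] }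
  obtain ⟨f, hf⟩ := exists_hom_aux.{uF, uH} n (by omega) X' R' (R'.wrel hn)
  exact ⟨e.toMonoidHom.comp f, fun i j h t => by simp [hf, X']⟩

/-- two homomorphisms agreeing on the transvections are equal -/
theorem sl_hom_ext {H : Type*} [Group H] {f g : Matrix.SpecialLinearGroup (Fin n) F →* H}
    (h : ∀ i j (hij : i ≠ j) (t : F), f (Matrix.SpecialLinearGroup.transvection hij t) =
      g (Matrix.SpecialLinearGroup.transvection hij t)) : f = g :=
  MonoidHom.ext fun x => by
    have : f.eqLocus g = ⊤ := CfsgLib.Classical.sl_eq_top _ h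
    exact (this.symm ▸ Subgroup.mem_top x : x ∈ f.eqLocus g)

end CfsgLib.Char.SingleBond
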