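import Cfsg.Agent.Lib.Char.SingleBond.SteinbergStep

/-!
# Steinberg relations give a homomorphism from `SL_n`, `n ≥ 3`, over a finite field
-/

set_option autoImplicit false

namespace CfsgLib.Char.SingleBond

open Matrix

variable {F : Type*} [Field F] {H : Type*} [Group H] {n : ℕ}

theorem transvection_mulVec {m : ℕ} {a b : Fin m} (h : a ≠ b) (t : F) (v : Fin m → F) :
    (Matrix.SpecialLinearGroup.transvection h t).1 *ᵥ v = v + Pi.single a (t * v b) := by
  rw [Matrix.SpecialLinearGroup.transvection_coe, add_mulVec, one_mulVec, Matrix.single_mulVec_eq]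
  congr 1
  ext j
  simp [Pi.single_apply]

theorem transvection_vecMul {m : ℕ} {a b : Fin m} (h : a ≠ b) (t : F) (v : Fin m → F) :
    v ᵥ* (Matrix.SpecialLinearGroup.transvection h t).1 = v + Pi.single b (v a * t) := by
  rw [Matrix.SpecialLinearGroup.transvection_coe, vecMul_add, vecMul_one]
  congr 1
  ext j
  simp [Matrix.vecMul, dotProduct, Matrix.single, Pi.single_apply, ite_and, eq_comm]

/-- the elements fixing a vector -/
def fixV {m : ℕ} (v : Fin m → F) : Subgroup (Matrix.SpecialLinearGroup (Fin m) F) where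
  carrier := {M | M.1 *ᵥ v = v}
  one_mem' := one_mulVec v
  mul_mem' {A B} hA hB := by
    show (A.1 * B.1) *ᵥ v = v
    rw [← mulVec_mulVec, show B.1 *ᵥ v = v from hB]; exact hA
  inv_mem' {A} hA := by
    show (A⁻¹).1 *ᵥ v = v
    calc (A⁻¹).1 *ᵥ v = (A⁻¹).1 *ᵥ (A.1 *ᵥ v) := by rw [show A.1 *ᵥ v = v from hA]
      _ = ((A⁻¹ * A : Matrix.SpecialLinearGroup (Fin m) F)).1 *ᵥ v := mulVec_mulVec _ _ _
      _ = v := by rw [inv_mul_cancel]; exact one_mulVec v

/-- the elements fixing a row vector -/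
def fixR {m : ℕ} (v : Fin m → F) : Subgroup (Matrix.SpecialLinearGroup (Fin m) F) where
  carrier := {M | v ᵥ* M.1 = v}
  one_mem' := vecMul_one v
  mul_mem' {A B} hA hB := by
    show v ᵥ* (A.1 * B.1) = v
    rw [← vecMul_vecMul, show v ᵥ* A.1 = v from hA]; exact hB
  inv_mem' {A} hA := by
    show v ᵥ* (A⁻¹).1 = v
    calc v ᵥ* (A⁻¹).1 = (v ᵥ* A.1) ᵥ* (A⁻¹).1 := by rw [show v ᵥ* A.1 = v from hA]
      _ = v ᵥ* ((A * A⁻¹ : Matrix.SpecialLinearGroup (Fin m) F)).1 := vecMul_vecMul _ _ _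
      _ = v := by rw [mul_inv_cancel]; exact vecMul_one v

theorem wS_inv_conj_xt (t : F) : (wS : S2 F)⁻¹ * xt t * wS = yt (-t) := by
  rw [mul_assoc, inv_mul_eq_iff_eq_mul]
  apply Subtype.ext
  show (xt t).1 * wS.1 = wS.1 * (yt (-t)).1
  rw [coe_wS, coe_xt, coe_yt, mul_fin_two, mul_fin_two]
  ext i j
  fin_cases i <;> fin_cases j <;> simp

theorem wS_inv_conj_yt (t : F) : (wS : S2 F)⁻¹ * yt t * wS = xt (-t) := by
  rw [mul_assoc, inv_mul_eq_iff_eq_mul]
  apply Subtype.ext
  show (yt t).1 * wS.1 = wS.1 * (xt (-t)).1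
  rw [coe_wS, coe_xt, coe_yt, mul_fin_two, mul_fin_two]
  ext i j
  fin_cases i <;> fin_cases j <;> simp

theorem coe_wS_inv : ((wS : S2 F)⁻¹).1 = !![0, -1; 1, 0] := by
  show wS.1.adjugate = _
  rw [coe_wS, adjugate_fin_two]
  simp

variable [Finite F]

namespace Stp

variable (S : Stp H F n)

/-- the first basis vector -/
def v0 (_ : Stp H F n) : Fin (n + 1) → F := Pi.single 0 1

theorem chi_vec (l : Fin n) (g : S2 F) :
    (S.π (S.R.chi S.W (e0 l) g)).1 *ᵥ Pi.single 0 1 = Pi.single 0 (g.1 0 0) + Pi.single l.succ (g.1 1 0) ∧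
    (S.π (S.R.chi S.W (e0 l) g)).1 *ᵥ Pi.single l.succ 1 =
      Pi.single 0 (g.1 0 1) + Pi.single l.succ (g.1 1 1) := by
  have h0 : (0 : Fin (n + 1)) ≠ l.succ := e0 l
  let good : S2 F → Prop := fun g => ∀ p q : F,
    (S.π (S.R.chi S.W (e0 l) g)).1 *ᵥ (Pi.single 0 p + Pi.single l.succ q) =
      Pi.single 0 (g.1 0 0 * p + g.1 0 1 * q) + Pi.single l.succ (g.1 1 0 * p + g.1 1 1 * q)
  have hmul : ∀ a b, good a → good b → good (a * b) := by
    intro a b ha hb p q
    have e : ∀ i j, (a * b).1 i j = a.1 i 0 * b.1 0 j + a.1 i 1 * b.1 1 j := fun i j => by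
      show (a.1 * b.1) i j = _
      rw [Matrix.mul_apply, Fin.sum_univ_two]
    show ((S.π (S.R.chi S.W (e0 l) (a * b)))).1 *ᵥ _ = _
    rw [map_mul, map_mul]
    show ((S.π (S.R.chi S.W (e0 l) a)).1 * (S.π (S.R.chi S.W (e0 l) b)).1) *ᵥ _ = _
    rw [← mulVec_mulVec, hb, ha, e, e, e, e]
    congr 2 <;> ring
  have hx : ∀ t, good (xt t) := fun t p q => by
    rw [S.R.chi_xt, S.hπ _ _ h0, transvection_mulVec, coe_xt]
    ext j
    simp [Pi.single_apply, h0.symm]
    split_ifs <;> ring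
  have hy : ∀ t, good (yt t) := fun t p q => by
    rw [S.R.chi_yt, S.hπ _ _ h0.symm, transvection_mulVec, coe_yt]
    ext j
    simp [Pi.single_apply, h0]
    split_ifs <;> ring
  have hg : good g := by
    let T : Subgroup (S2 F) := Subgroup.closure (Set.range xt ∪ Set.range yt)
    have hT : T = ⊤ := s2_eq_top (fun t => Subgroup.subset_closure (Or.inl ⟨t, rfl⟩))
      fun t => Subgroup.subset_closure (Or.inr ⟨t, rfl⟩)
    have hmem : g ∈ T := hT ▸ Subgroup.mem_top g
    induction hmem using Subgroup.closure_induction_left with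
    | one =>
      intro p q
      rw [map_one, map_one]
      show (1 : Matrix (Fin (n + 1)) (Fin (n + 1)) F) *ᵥ _ = _
      rw [one_mulVec]
      simp
    | mul_left x hx' y _ ih =>
      rcases hx' with ⟨t, rfl⟩ | ⟨t, rfl⟩
      exacts [hmul _ _ (hx t) ih, hmul _ _ (hy t) ih]
    | inv_mul_cancel x hx' y _ ih =>
      rcases hx' with ⟨t, rfl⟩ | ⟨t, rfl⟩
      exacts [hmul _ _ (by rw [xt_inv]; exact hx _) ih, hmul _ _ (by rw [yt_inv]; exact hy _) ih]
  have a := hg 1 0
  have b := hg 0 1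
  simp only [mul_one, mul_zero, add_zero, zero_add, Pi.single_zero] at a b
  exact ⟨a, b⟩

theorem hd_vec (l : Fin n) (s : Fˣ) : (S.π (S.hd l s)).1 *ᵥ S.v0 = (s : F) • S.v0 := by
  rw [hd, v0, (S.chi_vec l (dg s)).1, coe_dg, ← Pi.single_smul]
  simp

theorem range_fix : S.θ.range ≤ (fixV S.v0).comap S.π ⊓ (fixR S.v0).comap S.π :=
  S.range_le fun i j hij t => by
    have h : i.succ ≠ j.succ := fun e => hij (Fin.succ_injective _ e)
    refine ⟨?_, ?_⟩
    · show (S.π (S.X i.succ j.succ t)).1 *ᵥ S.v0 = S.v0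
      rw [S.hπ _ _ h, transvection_mulVec, v0, Pi.single_eq_of_ne (Fin.succ_ne_zero j), mul_zero,
        Pi.single_zero, add_zero]
    · show S.v0 ᵥ* (S.π (S.X i.succ j.succ t)).1 = S.v0
      rw [S.hπ _ _ h, transvection_vecMul, v0, Pi.single_eq_of_ne (Fin.succ_ne_zero i), zero_mul,
        Pi.single_zero, add_zero]

theorem row_fix : S.rowH.range ≤ (fixV S.v0).comap S.π :=
  S.row_le fun k t => by
    show (S.π (S.X 0 k.succ t)).1 *ᵥ S.v0 = S.v0
    rw [S.hπ _ _ (e0 k), transvection_mulVec, v0, Pi.single_eq_of_ne (Fin.succ_ne_zero k), mul_zero,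
      Pi.single_zero, add_zero]

theorem P_vec (l0 : Fin n) {x : H} (hx : x ∈ S.P) :
    ∃ s : Fˣ, ∃ r ∈ S.rowH.range, ∃ q ∈ S.θ.range, x = S.hd l0 s * r * q ∧
      (S.π x).1 *ᵥ S.v0 = (s : F) • S.v0 := by
  obtain ⟨s, r, hr, q, hq, rfl⟩ := S.P_decomp l0 hx
  refine ⟨s, r, hr, q, hq, rfl, ?_⟩
  rw [map_mul, map_mul]
  show ((S.π (S.hd l0 s)).1 * (S.π r).1 * (S.π q).1) *ᵥ S.v0 = _
  rw [← mulVec_mulVec, ← mulVec_mulVec, show (S.π q).1 *ᵥ S.v0 = S.v0 from (S.range_fix hq).1,
    show (S.π r).1 *ᵥ S.v0 = S.v0 from S.row_fix hr, S.hd_vec]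

omit [Finite F] in
theorem colH_vec (a : Fin n → Multiplicative F) :
    (S.π (S.colH a)).1 *ᵥ Pi.single 0 1 = Fin.cons 1 (fun k => (a k).toAdd) := by
  classical
  suffices h : ∀ s : Finset (Fin n), (S.π (S.colH (∏ k ∈ s, Pi.mulSingle k (a k)))).1 *ᵥ Pi.single 0 1 =
      (Fin.cons 1 (fun k => if k ∈ s then (a k).toAdd else 0) : Fin (n + 1) → F) by
    have := h Finset.univ
    rw [Finset.univ_prod_mulSingle] at this
    rw [this]
    simp
  intro s
  induction s using Finset.induction with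
  | empty =>
    rw [Finset.prod_empty, map_one, map_one]
    show (1 : Matrix (Fin (n + 1)) (Fin (n + 1)) F) *ᵥ _ = _
    rw [one_mulVec]
    ext i
    refine Fin.cases ?_ (fun k => ?_) i <;> simp
  | insert k s hk ih =>
    rw [Finset.prod_insert hk, map_mul, map_mul, S.colH_single, S.hπ _ _ (e0 k).symm]
    show ((Matrix.SpecialLinearGroup.transvection _ _).1 * _) *ᵥ _ = _
    rw [← mulVec_mulVec, ih, transvection_mulVec]
    ext i
    refine Fin.cases ?_ (fun m => ?_) i
    · simp [Pi.single_eq_of_ne (e0 k)]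
    · simp only [Pi.add_apply, Fin.cons_succ, Fin.cons_zero, mul_one]
      rcases eq_or_ne m k with rfl | hm
      · simp [hk]
      · simp [hm, Pi.single_eq_of_ne (fun e => hm (Fin.succ_injective _ e))]

omit [Finite F] in
theorem rowH_vec (a : Fin n → Multiplicative F) :
    Pi.single 0 1 ᵥ* (S.π (S.rowH a)).1 = Fin.cons 1 (fun k => (a k).toAdd) := by
  classical
  suffices h : ∀ s : Finset (Fin n), Pi.single 0 1 ᵥ* (S.π (S.rowH (∏ k ∈ s, Pi.mulSingle k (a k)))).1 =
      (Fin.cons 1 (fun k => if k ∈ s then (a k).toAdd else 0) : Fin (n + 1) → F) by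
    have := h Finset.univ
    rw [Finset.univ_prod_mulSingle] at this
    rw [this]
    simp
  intro s
  induction s using Finset.induction with
  | empty =>
    rw [Finset.prod_empty, map_one, map_one]
    show _ ᵥ* (1 : Matrix (Fin (n + 1)) (Fin (n + 1)) F) = _
    rw [vecMul_one]
    ext i
    refine Fin.cases ?_ (fun k => ?_) i <;> simp
  | insert k s hk ih =>
    rw [Finset.prod_insert hk, mul_comm, map_mul, map_mul, S.rowH_single, S.hπ _ _ (e0 k)]
    show _ ᵥ* (_ * (Matrix.SpecialLinearGroup.transvection _ _).1) = _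
    rw [← vecMul_vecMul, ih, transvection_vecMul]
    ext i
    refine Fin.cases ?_ (fun m => ?_) i
    · simp [Pi.single_eq_of_ne (e0 k)]
    · simp only [Pi.add_apply, Fin.cons_succ, Fin.cons_zero, one_mul]
      rcases eq_or_ne m k with rfl | hm
      · simp [hk]
      · simp [hm, Pi.single_eq_of_ne (fun e => hm (Fin.succ_injective _ e))]

theorem theta_entries (q : Matrix.SpecialLinearGroup (Fin n) F) (i j : Fin n) :
    (S.π (S.θ q)).1 i.succ j.succ = q.1 i j := by
  let T : Subgroup (Matrix.SpecialLinearGroup (Fin n) F) :=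
    { carrier := {q | (∀ i j : Fin n, (S.π (S.θ q)).1 i.succ j.succ = q.1 i j) ∧
        (∀ i : Fin n, (S.π (S.θ q)).1 i.succ 0 = 0)}
      one_mem' := by
        refine ⟨fun i j => ?_, fun i => ?_⟩ <;> rw [map_one, map_one]
        · show (1 : Matrix (Fin (n + 1)) (Fin (n + 1)) F) i.succ j.succ = (1 : Matrix (Fin n) (Fin n) F) i j
          simp [Matrix.one_apply]
        · exact Matrix.one_apply_ne (Fin.succ_ne_zero i)
      mul_mem' := fun {a b} ha hb => by
        refine ⟨fun i j => ?_, fun i => ?_⟩ <;> rw [map_mul, map_mul]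
        · show ((S.π (S.θ a)).1 * (S.π (S.θ b)).1) i.succ j.succ = (a.1 * b.1) i j
          rw [Matrix.mul_apply, Fin.sum_univ_succ, ha.2 i, zero_mul, zero_add, Matrix.mul_apply]
          exact Finset.sum_congr rfl fun k _ => by rw [ha.1, hb.1]
        · show ((S.π (S.θ a)).1 * (S.π (S.θ b)).1) i.succ 0 = 0
          rw [Matrix.mul_apply, Fin.sum_univ_succ, ha.2 i, zero_mul, zero_add]
          exact Finset.sum_eq_zero fun k _ => by rw [hb.2, mul_zero]
      inv_mem' := fun {a} ha => by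
        have hfin : Finite (Matrix.SpecialLinearGroup (Fin n) F) :=
          Finite.of_injective (fun A => A.1) Subtype.val_injective
        have hk : a⁻¹ = a ^ (orderOf a - 1) :=
          inv_eq_of_mul_eq_one_right (by
            rw [← pow_succ', Nat.sub_add_cancel (orderOf_pos a), pow_orderOf_eq_one])
        rw [hk]
        generalize orderOf a - 1 = m
        induction m with
        | zero =>
          rw [pow_zero]
          refine ⟨fun i j => ?_, fun i => ?_⟩ <;> rw [map_one, map_one]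
          · show (1 : Matrix (Fin (n + 1)) (Fin (n + 1)) F) i.succ j.succ = (1 : Matrix (Fin n) (Fin n) F) i j
            simp [Matrix.one_apply]
          · exact Matrix.one_apply_ne (Fin.succ_ne_zero i)
        | succ m ih =>
          rw [pow_succ]
          refine ⟨fun i j => ?_, fun i => ?_⟩ <;> rw [map_mul, map_mul]
          · show ((S.π (S.θ (a ^ m))).1 * (S.π (S.θ a)).1) i.succ j.succ = ((a ^ m).1 * a.1) i j
            rw [Matrix.mul_apply, Fin.sum_univ_succ, ih.2 i, zero_mul, zero_add, Matrix.mul_apply]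
            exact Finset.sum_congr rfl fun k _ => by rw [ih.1, ha.1]
          · show ((S.π (S.θ (a ^ m))).1 * (S.π (S.θ a)).1) i.succ 0 = 0
            rw [Matrix.mul_apply, Fin.sum_univ_succ, ih.2 i, zero_mul, zero_add]
            exact Finset.sum_eq_zero fun k _ => by rw [ha.2, mul_zero] }
  have hT : T = ⊤ := CfsgLib.Classical.sl_eq_top T fun a b hab c => by
    have h : a.succ ≠ b.succ := fun e => hab (Fin.succ_injective _ e)
    refine ⟨fun i j => ?_, fun i => ?_⟩ <;>
      rw [S.hθ, S.hπ _ _ h, Matrix.SpecialLinearGroup.transvection_coe]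
    · rw [Matrix.SpecialLinearGroup.transvection_coe]
      simp [Matrix.one_apply, Matrix.single]
    · simp [Matrix.single, Fin.succ_ne_zero]
  exact (hT.symm ▸ Subgroup.mem_top q : q ∈ T).1 i j

/-- the two kinds of elements covering the group -/
def InM (x : H) : Prop :=
  ∃ γ ∈ S.colH.range, ∃ p ∈ S.P, x = γ * p ∨ ∃ l, x = S.R.chi S.W (e0 l) wS * γ * p

omit [Finite F] in
theorem col_conj_succ {i j : Fin n} (hij : i ≠ j) (t : F) {m : H} (hm : m ∈ S.colH.range) :
    S.X i.succ j.succ t * m * (S.X i.succ j.succ t)⁻¹ ∈ S.colH.range := by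
  have hij' : i.succ ≠ j.succ := fun e => hij (Fin.succ_injective _ e)
  refine S.col_le (T := S.colH.range.comap (MulAut.conj (S.X i.succ j.succ t)).toMonoidHom) (fun k u => ?_) hm
  show S.X i.succ j.succ t * S.X k.succ 0 u * (S.X i.succ j.succ t)⁻¹ ∈ S.colH.range
  rcases eq_or_ne k j with rfl | hk
  · rw [S.R.move_right hij' (e0 k).symm (e0 i).symm]
    exact mul_mem (S.col_mem i _) (S.col_mem k _)
  · rw [S.R.fix hij' (e0 k).symm (e0 i).symm (fun e => hk (Fin.succ_injective _ e).symm)]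
    exact S.col_mem k u

theorem hd_col {l : Fin n} {s : Fˣ} {m : H} (hm : m ∈ S.colH.range) :
    S.hd l s * m * (S.hd l s)⁻¹ ∈ S.colH.range := by
  refine S.col_le (T := S.colH.range.comap (MulAut.conj (S.hd l s)).toMonoidHom) (fun k u => ?_) hm
  show S.hd l s * _ * (S.hd l s)⁻¹ ∈ S.colH.range
  obtain ⟨c, -, hc⟩ := S.hd_conj l s (e0 k).symm
  rw [hc]
  exact S.col_mem k _

/-- moving an element past the column group -/
theorem pass {g γ p : H} (hg : g ∈ S.P) (hn : g * γ * g⁻¹ ∈ S.colH.range) (hp : p ∈ S.P) :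
    ∃ γ' ∈ S.colH.range, ∃ p' ∈ S.P, g * (γ * p) = γ' * p' :=
  ⟨_, hn, g * p, mul_mem hg hp, by group⟩

theorem upper_mul (k : Fin n) (t : F) {γ p : H} (hγ : γ ∈ S.colH.range) (hp : p ∈ S.P) :
    ∃ γ' ∈ S.colH.range, ∃ p' ∈ S.P,
      S.X 0 k.succ t * (γ * p) = γ' * p' ∨ S.X 0 k.succ t * (γ * p) = S.R.chi S.W (e0 k) wS * γ' * p' := by
  classical
  obtain ⟨a, rfl⟩ := hγ
  set a' := Function.update a k 1 with ha'
  have hsplit : a = Pi.mulSingle k (a k) * a' := by
    funext i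
    rcases eq_or_ne i k with rfl | hi
    · simp [a']
    · simp [a', hi]
  let E : Subgroup H := Subgroup.closure {x | ∃ (i : Fin (n + 1)) (u : F), i ≠ k.succ ∧ x = S.X i k.succ u}
  have hE : E ≤ S.P := (Subgroup.closure_le _).2 fun x ⟨i, u, hi, e⟩ => e ▸ S.X_mem_P hi (Fin.succ_ne_zero k) u
  have hnorm : ∀ i : Fin n, i ≠ k → ∀ u, ∀ m ∈ E, S.X i.succ 0 u * m * (S.X i.succ 0 u)⁻¹ ∈ E := by
    intro i hi u m hm
    have hle : E ≤ E.comap (MulAut.conj (S.X i.succ 0 u)).toMonoidHom := by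
      rw [Subgroup.closure_le]
      rintro _ ⟨j, v, hj, rfl⟩
      show S.X i.succ 0 u * S.X j k.succ v * (S.X i.succ 0 u)⁻¹ ∈ E
      have hik : i.succ ≠ k.succ := fun e => hi (Fin.succ_injective _ e)
      rcases eq_or_ne j 0 with rfl | hj0
      · rw [S.R.move_right (e0 i).symm (e0 k) hik]
        exact mul_mem (Subgroup.subset_closure ⟨_, _, hik, rfl⟩) (Subgroup.subset_closure ⟨_, _, (e0 k), rfl⟩)
      · rw [S.R.fix (e0 i).symm hj hik hj0.symm]
        exact Subgroup.subset_closure ⟨_, _, hj, rfl⟩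
    exact hle hm
  have hN : S.colH a' ∈ Subgroup.normalizer (E : Set H) := by
    have : ∀ i, Pi.mulSingle i (a' i) ∈ (Subgroup.normalizer (E : Set H)).comap S.colH := by
      intro i
      rcases eq_or_ne i k with rfl | hi
      · rw [show a' i = 1 by simp [a'], Pi.mulSingle_one]
        exact one_mem _
      · show S.colH _ ∈ Subgroup.normalizer (E : Set H)
        rw [S.colH_single, Subgroup.mem_normalizer_iff]
        refine fun m => ⟨fun hm => hnorm i hi _ m hm, fun hm => ?_⟩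
        have := hnorm i hi (-(a' i).toAdd) _ hm
        rw [← S.R.neg (e0 i).symm] at this
        simpa [mul_assoc] using this
    have h := Subgroup.prod_mem _ (t := Finset.univ) fun i _ => this i
    rw [Finset.univ_prod_mulSingle] at h
    exact h
  rw [hsplit, map_mul, S.colH_single]
  set b := (a k).toAdd
  have key : ∀ (b' u : F) (s : Fˣ), ∃ γ' ∈ S.colH.range, ∃ p' ∈ S.P,
      S.R.chi S.W (e0 k) (yt b' * dg s * xt u) * (S.colH a' * p) = γ' * p' := by
    intro b' u s
    have hm : (S.colH a')⁻¹ * S.X 0 k.succ u * S.colH a' ∈ E := by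
      have := (Subgroup.mem_normalizer_iff.1 (inv_mem hN) (S.X 0 k.succ u)).1
        (Subgroup.subset_closure ⟨0, u, e0 k, rfl⟩)
      simpa using this
    refine ⟨S.X k.succ 0 b' * (S.hd k s * S.colH a' * (S.hd k s)⁻¹),
      mul_mem (S.col_mem k b') (S.hd_col ⟨a', rfl⟩), S.hd k s * ((S.colH a')⁻¹ * S.X 0 k.succ u * S.colH a') * p,
      mul_mem (mul_mem (S.hd_mem_P k s) (hE hm)) hp, ?_⟩
    rw [map_mul, map_mul, S.R.chi_xt, S.R.chi_yt, hd]
    group
  have e1 : S.X 0 k.succ t * (S.X k.succ 0 b * S.colH a' * p) =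
      S.R.chi S.W (e0 k) (xt t * yt b) * (S.colH a' * p) := by
    rw [map_mul, S.R.chi_xt, S.R.chi_yt]; group
  rw [e1]
  rcases xt_mul_yt t b with ⟨b', u, s, e⟩ | ⟨b', u, s, e⟩
  · obtain ⟨γ', h1, p', h2, h3⟩ := key b' u s
    exact ⟨γ', h1, p', h2, Or.inl (by rw [e, h3])⟩
  · obtain ⟨γ', h1, p', h2, h3⟩ := key b' u s
    refine ⟨γ', h1, p', h2, Or.inr ?_⟩
    rw [e, show wS * yt b' * dg s * xt u = wS * (yt b' * dg s * xt u) from by group,
      map_mul (S.R.chi S.W (e0 k)) wS, mul_assoc (S.R.chi S.W (e0 k) wS), h3, ← mul_assoc]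

theorem W_conj (l : Fin n) {x : H} {g : S2 F} (h : x = S.R.chi S.W (e0 l) g) :
    x * S.R.chi S.W (e0 l) wS = S.R.chi S.W (e0 l) wS * S.R.chi S.W (e0 l) (wS⁻¹ * g * wS) := by
  rw [h, ← map_mul, ← map_mul]
  congr 1
  group

theorem closed_lower (k : Fin n) (t : F) {x : H} (hx : S.InM x) : S.InM (S.X k.succ 0 t * x) := by
  obtain ⟨γ, hγ, p, hp, rfl | ⟨l, rfl⟩⟩ := hx
  · exact ⟨_, mul_mem (S.col_mem k t) hγ, p, hp, Or.inl (mul_assoc _ _ _).symm⟩
  set w := S.R.chi S.W (e0 l) wS with hw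
  rcases eq_or_ne k l with rfl | hkl
  · have e : S.X k.succ 0 t * w = w * S.X 0 k.succ (-t) := by
      rw [hw, S.W_conj k (S.R.chi_yt S.W (e0 k) t).symm, wS_inv_conj_yt, S.R.chi_xt]
    obtain ⟨γ', h1, p', h2, h3 | h3⟩ := S.upper_mul k (-t) hγ hp
    · refine ⟨γ', h1, p', h2, Or.inr ⟨k, ?_⟩⟩
      rw [← hw]
      calc S.X k.succ 0 t * (w * γ * p) = S.X k.succ 0 t * w * (γ * p) := by group
        _ = w * (S.X 0 k.succ (-t) * (γ * p)) := by rw [e]; group
        _ = _ := by rw [h3]; group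
    · refine ⟨S.hd k (-1) * γ' * (S.hd k (-1))⁻¹, S.hd_col h1, S.hd k (-1) * p',
        mul_mem (S.hd_mem_P k _) h2, Or.inl ?_⟩
      calc S.X k.succ 0 t * (w * γ * p) = S.X k.succ 0 t * w * (γ * p) := by group
        _ = w * (S.X 0 k.succ (-t) * (γ * p)) := by rw [e]; group
        _ = (w * w) * γ' * p' := by rw [h3, ← hw]; group
        _ = _ := by rw [hw, ← map_mul, wS_sq]; simp only [hd]; group
  · have hkl' : k.succ ≠ l.succ := fun e => hkl (Fin.succ_injective _ e)
    have e : S.X k.succ 0 t * w = w * S.X k.succ l.succ t := by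
      have := S.R.chi_row_fst S.W (e0 l) (e0 k) hkl'.symm wS⁻¹ t
      rw [coe_wS_inv] at this
      simp [S.R.zero (e0 k).symm] at this
      rw [hw, ← this]
      group
    obtain ⟨γ', h1, p', h2, h3⟩ := S.pass (S.X_mem_P hkl' (Fin.succ_ne_zero l) t)
      (S.col_conj_succ hkl t hγ) hp
    refine ⟨γ', h1, p', h2, Or.inr ⟨l, ?_⟩⟩
    rw [← hw]
    calc S.X k.succ 0 t * (w * γ * p) = S.X k.succ 0 t * w * (γ * p) := by group
      _ = w * (S.X k.succ l.succ t * (γ * p)) := by rw [e]; group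
      _ = _ := by rw [h3]; group

theorem closed_upper (k : Fin n) (t : F) {x : H} (hx : S.InM x) : S.InM (S.X 0 k.succ t * x) := by
  obtain ⟨γ, hγ, p, hp, rfl | ⟨l, rfl⟩⟩ := hx
  · obtain ⟨γ', h1, p', h2, h3 | h3⟩ := S.upper_mul k t hγ hp
    · exact ⟨γ', h1, p', h2, Or.inl h3⟩
    · exact ⟨γ', h1, p', h2, Or.inr ⟨k, h3⟩⟩
  set w := S.R.chi S.W (e0 l) wS with hw
  rcases eq_or_ne k l with rfl | hkl
  · have e : S.X 0 k.succ t * w = w * S.X k.succ 0 (-t) := by
      rw [hw, S.W_conj k (S.R.chi_xt S.W (e0 k) t).symm, wS_inv_conj_xt, S.R.chi_yt]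
    refine ⟨_, mul_mem (S.col_mem k (-t)) hγ, p, hp, Or.inr ⟨k, ?_⟩⟩
    rw [← hw]
    calc S.X 0 k.succ t * (w * γ * p) = S.X 0 k.succ t * w * (γ * p) := by group
      _ = _ := by rw [e]; group
  · have hkl' : l.succ ≠ k.succ := fun e => hkl (Fin.succ_injective _ e).symm
    have e : S.X 0 k.succ t * w = w * S.X l.succ k.succ t := by
      have := S.R.chi_col_fst S.W (e0 l) (e0 k) hkl' wS⁻¹ t
      rw [coe_wS_inv] at this
      simp [S.R.zero (e0 k)] at this
      rw [hw, ← this]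
      group
    obtain ⟨γ', h1, p', h2, h3⟩ := S.pass (S.X_mem_P hkl' (Fin.succ_ne_zero k) t)
      (S.col_conj_succ hkl.symm t hγ) hp
    refine ⟨γ', h1, p', h2, Or.inr ⟨l, ?_⟩⟩
    rw [← hw]
    calc S.X 0 k.succ t * (w * γ * p) = S.X 0 k.succ t * w * (γ * p) := by group
      _ = w * (S.X l.succ k.succ t * (γ * p)) := by rw [e]; group
      _ = _ := by rw [h3]; group

/-- the map to the special linear group is injective -/
theorem injective (hn : 0 < n) (hθπ : ∀ x, x ∈ Subgroup.closure {x | ∃ i j t, i ≠ j ∧ x = S.X i j t}) :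
    Function.Injective S.π := by
  have hcl : ∀ x, S.InM x := by
    intro x
    have hmem : x ∈ Subgroup.closure
        {x | ∃ (k : Fin n) (t : F), x = S.X 0 k.succ t ∨ x = S.X k.succ 0 t} := by
      refine (Subgroup.closure_le _).2 ?_ (hθπ x)
      rintro _ ⟨i, j, t, hij, rfl⟩
      rcases Fin.eq_zero_or_eq_succ i with rfl | ⟨i', rfl⟩
      · obtain ⟨j', rfl⟩ := Fin.exists_succ_eq_of_ne_zero hij.symm
        exact Subgroup.subset_closure ⟨j', t, Or.inl rfl⟩
      rcases Fin.eq_zero_or_eq_succ j with rfl | ⟨j', rfl⟩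
      · exact Subgroup.subset_closure ⟨i', t, Or.inr rfl⟩
      have h := S.R.prod (e0 i').symm (e0 j') hij t 1
      rw [mul_one] at h
      rw [← h]
      exact mul_mem (mul_mem (mul_mem (Subgroup.subset_closure ⟨i', t, Or.inr rfl⟩)
        (Subgroup.subset_closure ⟨j', 1, Or.inl rfl⟩))
        (inv_mem (Subgroup.subset_closure ⟨i', t, Or.inr rfl⟩)))
        (inv_mem (Subgroup.subset_closure ⟨j', 1, Or.inl rfl⟩))
    induction hmem using Subgroup.closure_induction_left with
    | one => exact ⟨1, one_mem _, 1, one_mem _, Or.inl (mul_one _).symm⟩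
    | mul_left g hg y _ ih =>
      obtain ⟨k, t, rfl | rfl⟩ := hg
      exacts [S.closed_upper k t ih, S.closed_lower k t ih]
    | inv_mul_cancel g hg y _ ih =>
      obtain ⟨k, t, rfl | rfl⟩ := hg
      · rw [S.R.neg (e0 k)]; exact S.closed_upper k _ ih
      · rw [S.R.neg (e0 k).symm]; exact S.closed_lower k _ ih
  rw [← MonoidHom.ker_eq_bot_iff, eq_bot_iff]
  intro x hx
  rw [Subgroup.mem_bot]
  rw [MonoidHom.mem_ker] at hx
  let l0 : Fin n := ⟨0, hn⟩
  obtain ⟨γ, ⟨a, rfl⟩, p, hp, h⟩ := hcl x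
  obtain ⟨s, r, hr, q, hq, hpe, hpv⟩ := S.P_vec l0 hp
  have hv : (S.π (S.colH a * p)).1 *ᵥ Pi.single 0 1 = (s : F) • Fin.cons 1 (fun k => (a k).toAdd) := by
    rw [map_mul]
    show ((S.π (S.colH a)).1 * (S.π p).1) *ᵥ _ = _
    rw [← mulVec_mulVec, show (S.π p).1 *ᵥ Pi.single 0 1 = (s : F) • Pi.single 0 1 from hpv,
      mulVec_smul, S.colH_vec]
  rcases h with rfl | ⟨l, rfl⟩
  · rw [hx] at hv
    change (1 : Matrix (Fin (n + 1)) (Fin (n + 1)) F) *ᵥ _ = _ at hv
    rw [one_mulVec] at hv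
    have hs1 : (s : F) = 1 := by
      have := congrFun hv 0
      simpa using this.symm
    have ha : a = 1 := funext fun k => by
      have := congrFun hv k.succ
      simp [hs1, Pi.single_eq_of_ne (Fin.succ_ne_zero k)] at this
      exact Multiplicative.toAdd.injective (by simpa using this.symm)
    have hs : s = 1 := Units.ext hs1
    rw [ha, map_one, one_mul] at hx ⊢
    rw [hpe, hs, S.hd_one, one_mul] at hx ⊢
    obtain ⟨b, rfl⟩ := hr
    have hrow : Pi.single 0 1 ᵥ* (S.π (S.rowH b)).1 = Pi.single 0 1 := by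
      have h1 : S.π (S.rowH b) = (S.π q)⁻¹ := by
        rw [map_mul] at hx
        exact eq_inv_of_mul_eq_one_left hx
      rw [h1]
      exact (fixR (Pi.single 0 1)).inv_mem (S.range_fix hq).2
    rw [S.rowH_vec] at hrow
    have hb : b = 1 := funext fun k => by
      have := congrFun hrow k.succ
      simp [Pi.single_eq_of_ne (Fin.succ_ne_zero k)] at this
      exact this
    rw [hb, map_one, one_mul] at hx ⊢
    obtain ⟨Q, rfl⟩ := hq
    have hQ : Q = 1 := Subtype.ext (Matrix.ext fun i j => by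
      rw [← S.theta_entries Q i j, hx]
      show (1 : Matrix (Fin (n + 1)) (Fin (n + 1)) F) i.succ j.succ = (1 : Matrix (Fin n) (Fin n) F) i j
      simp [Matrix.one_apply])
    rw [hQ, map_one]
  · exfalso
    rw [mul_assoc, map_mul] at hx
    have h1 : S.π (S.colH a * p) = S.π (S.R.chi S.W (e0 l) wS⁻¹) := by
      rw [map_inv, map_inv]
      exact eq_inv_of_mul_eq_one_right hx
    rw [h1, (S.chi_vec l _).1, coe_wS_inv] at hv
    have := congrFun hv 0
    simp [Pi.single_eq_of_ne (e0 l)] at this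
    exact s.ne_zero this.symm

end Stp

end CfsgLib.Char.SingleBond
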