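import Cfsg.Agent.Lib.Char.SingleBond.Steinberg

/-!
# Steinberg relations for `SL_n`: the inductive step
-/

set_option autoImplicit false

namespace CfsgLib.Char.SingleBond

open Matrix

variable {F : Type*} [Field F] {H : Type*} [Group H] {n : ℕ}

/-- diagonal elements of `SL₂` -/
def dg (s : Fˣ) : S2 F := ⟨!![(s : F), 0; 0, (s : F)⁻¹], by simp [det_fin_two]⟩

theorem coe_dg (s : Fˣ) : (dg s : Matrix (Fin 2) (Fin 2) F) = !![(s : F), 0; 0, (s : F)⁻¹] := rfl

theorem dg_one : dg (1 : Fˣ) = 1 := by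
  apply Subtype.ext
  rw [coe_dg]
  ext i j
  fin_cases i <;> fin_cases j <;> simp

theorem dg_mul (s t : Fˣ) : dg (s * t) = dg s * dg t := by
  apply Subtype.ext
  show _ = (dg s).1 * (dg t).1
  rw [coe_dg, coe_dg, coe_dg, mul_fin_two]
  ext i j
  fin_cases i <;> fin_cases j <;> simp [mul_comm]

theorem dg_conj_xt (s : Fˣ) (t : F) : dg s * xt t * (dg s)⁻¹ = xt ((s : F) * s * t) := by
  rw [mul_inv_eq_iff_eq_mul]
  apply Subtype.ext
  show (dg s).1 * (xt t).1 = (xt _).1 * (dg s).1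
  rw [coe_dg, coe_xt, coe_xt, mul_fin_two, mul_fin_two]
  ext i j
  have := s.ne_zero
  fin_cases i <;> fin_cases j <;> simp
  field_simp

theorem dg_conj_yt (s : Fˣ) (t : F) : dg s * yt t * (dg s)⁻¹ = yt ((s : F)⁻¹ * (s : F)⁻¹ * t) := by
  rw [mul_inv_eq_iff_eq_mul]
  apply Subtype.ext
  show (dg s).1 * (yt t).1 = (yt _).1 * (dg s).1
  rw [coe_dg, coe_yt, coe_yt, mul_fin_two, mul_fin_two]
  ext i j
  have := s.ne_zero
  fin_cases i <;> fin_cases j <;> simp
  field_simp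

theorem th2_dg (s : Fˣ) : th2 (dg s) = dg s := by
  apply Subtype.ext
  rw [coe_th2, coe_dg]
  simp

/-- the Weyl element -/
def wS : S2 F := ⟨!![0, 1; -1, 0], by simp [det_fin_two]⟩

theorem coe_wS : ((wS : S2 F) : Matrix (Fin 2) (Fin 2) F) = !![0, 1; -1, 0] := rfl

theorem wS_sq : (wS : S2 F) * wS = dg (-1) := by
  apply Subtype.ext
  show wS.1 * wS.1 = _
  rw [coe_wS, coe_dg, mul_fin_two]
  ext i j
  fin_cases i <;> fin_cases j <;> simp [inv_neg]

theorem wS_conj_xt (t : F) : (wS : S2 F) * xt t * wS⁻¹ = yt (-t) := by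
  rw [mul_inv_eq_iff_eq_mul]
  apply Subtype.ext
  show wS.1 * (xt t).1 = (yt (-t)).1 * wS.1
  rw [coe_wS, coe_xt, coe_yt, mul_fin_two, mul_fin_two]
  ext i j
  fin_cases i <;> fin_cases j <;> simp

/-- decomposition of `xt t * yt a` -/
theorem xt_mul_yt (t a : F) : (∃ (b u : F) (s : Fˣ), xt t * yt a = yt b * dg s * xt u) ∨
    ∃ (b u : F) (s : Fˣ), xt t * yt a = wS * yt b * dg s * xt u := by
  by_cases h : 1 + t * a = 0
  · right
    have ha : a ≠ 0 := fun e => by simp [e] at h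
    refine ⟨0, a⁻¹, Units.mk0 (-a) (neg_ne_zero.2 ha), ?_⟩
    rw [yt_zero, mul_one]
    apply Subtype.ext
    show (xt t).1 * (yt a).1 = wS.1 * (dg _).1 * (xt _).1
    rw [coe_xt, coe_yt, coe_wS, coe_dg, coe_xt, mul_fin_two, mul_fin_two, mul_fin_two]
    ext i j
    fin_cases i <;> fin_cases j <;> simp [inv_neg, ha] <;> field_simp <;> linear_combination h
  · left
    refine ⟨a * (1 + t * a)⁻¹, t * (1 + t * a)⁻¹, Units.mk0 _ h, ?_⟩
    have e := mul_inv_cancel₀ h
    apply Subtype.ext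
    show (xt t).1 * (yt a).1 = (yt _).1 * (dg _).1 * (xt _).1
    rw [coe_xt, coe_yt, coe_yt, coe_dg, coe_xt, mul_fin_two, mul_fin_two, mul_fin_two, Units.val_mk0]
    generalize hv : (1 + t * a)⁻¹ = v at e ⊢
    ext i j
    fin_cases i <;> fin_cases j
    · simp
    · simp; linear_combination -t * e
    · simp; linear_combination -a * e
    · simp; linear_combination -(1 + t * a * v) * e

/-- the data of the inductive step -/
structure Stp (H : Type*) [Group H] (F : Type*) [Field F] (n : ℕ) where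
  /-- the root elements -/
  X : Fin (n + 1) → Fin (n + 1) → F → H
  R : StRel X
  W : WRel X
  /-- the map to the special linear group -/
  π : H →* Matrix.SpecialLinearGroup (Fin (n + 1)) F
  hπ : ∀ i j (h : i ≠ j) (t : F), π (X i j t) = Matrix.SpecialLinearGroup.transvection h t
  /-- the homomorphism of the smaller group -/
  θ : Matrix.SpecialLinearGroup (Fin n) F →* H
  hθ : ∀ i j (h : i ≠ j) (t : F), θ (Matrix.SpecialLinearGroup.transvection h t) = X i.succ j.succ t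

/-- zero is not a successor -/
theorem e0 (l : Fin n) : (0 : Fin (n + 1)) ≠ l.succ := (Fin.succ_ne_zero l).symm

namespace Stp

variable [Finite F] (S : Stp H F n)

theorem X_mem_range {i j : Fin n} (h : i ≠ j) (t : F) : S.X i.succ j.succ t ∈ S.θ.range :=
  ⟨Matrix.SpecialLinearGroup.transvection h t, S.hθ i j h t⟩

omit [Finite F] in
theorem range_le {T : Subgroup H} (h : ∀ i j : Fin n, i ≠ j → ∀ t, S.X i.succ j.succ t ∈ T) :
    S.θ.range ≤ T := by
  rintro _ ⟨q, rfl⟩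
  have hT : T.comap S.θ = ⊤ := CfsgLib.Classical.sl_eq_top _ fun i j hij c => by
    show S.θ _ ∈ T
    rw [S.hθ]; exact h i j hij c
  have hq : q ∈ T.comap S.θ := hT.symm ▸ Subgroup.mem_top q
  exact hq

/-- the torus element of a pair -/
noncomputable def hd (l : Fin n) (s : Fˣ) : H := S.R.chi S.W (e0 l) (dg s)

theorem hd_mul (l : Fin n) (s t : Fˣ) : S.hd l (s * t) = S.hd l s * S.hd l t := by
  rw [hd, hd, hd, dg_mul, map_mul]

theorem hd_one (l : Fin n) : S.hd l 1 = 1 := by rw [hd, dg_one, map_one]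

theorem hd_inv (l : Fin n) (s : Fˣ) : (S.hd l s)⁻¹ = S.hd l s⁻¹ := by
  rw [inv_eq_iff_mul_eq_one, ← hd_mul, mul_inv_cancel, hd_one]

theorem hd_conj (l : Fin n) (s : Fˣ) {i j : Fin (n + 1)} (hij : i ≠ j) : ∃ c : F, c ≠ 0 ∧ ∀ t,
    S.hd l s * S.X i j t * (S.hd l s)⁻¹ = S.X i j (c * t) := by
  have hs := s.ne_zero
  have hs' : (s : F)⁻¹ ≠ 0 := inv_ne_zero hs
  by_cases hi0 : i = 0
  · subst hi0
    by_cases hjl : j = l.succ
    · subst hjl
      refine ⟨_, mul_ne_zero hs hs, fun t => ?_⟩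
      rw [hd, ← S.R.chi_xt S.W (e0 l), ← map_inv, ← map_mul, ← map_mul, dg_conj_xt, S.R.chi_xt]
    · refine ⟨_, hs, fun t => ?_⟩
      rw [hd, S.R.chi_col_fst S.W (e0 l) hij (Ne.symm hjl), coe_dg]
      simp [S.R.zero (Ne.symm hjl)]
  by_cases hil : i = l.succ
  · subst hil
    by_cases hj0 : j = 0
    · subst hj0
      refine ⟨_, mul_ne_zero hs' hs', fun t => ?_⟩
      rw [hd, ← S.R.chi_yt S.W (e0 l), ← map_inv, ← map_mul, ← map_mul, dg_conj_yt, S.R.chi_yt]
    · refine ⟨_, hs', fun t => ?_⟩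
      rw [hd, S.R.chi_col_snd S.W (e0 l) (Ne.symm hj0) hij, coe_dg]
      simp [S.R.zero (Ne.symm hj0)]
  by_cases hj0 : j = 0
  · subst hj0
    refine ⟨_, hs', fun t => ?_⟩
    rw [hd, S.R.chi_row_fst S.W (e0 l) (Ne.symm hi0) (Ne.symm hil), coe_dg]
    simp [S.R.zero hil]
  by_cases hjl : j = l.succ
  · subst hjl
    refine ⟨_, hs, fun t => ?_⟩
    rw [hd, S.R.chi_row_snd S.W (e0 l) (Ne.symm hi0) (Ne.symm hil), coe_dg]
    simp [S.R.zero hi0]
  exact ⟨1, one_ne_zero, fun t => by rw [hd, S.R.chi_fix S.W (e0 l) hij hi0 hil hj0 hjl, one_mul]⟩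

theorem hd_range (l : Fin n) (s : Fˣ) {m : H} (hm : m ∈ S.θ.range) :
    S.hd l s * m * (S.hd l s)⁻¹ ∈ S.θ.range := by
  refine S.range_le (T := S.θ.range.comap (MulAut.conj (S.hd l s)).toMonoidHom) (fun i j hij t => ?_) hm
  show S.hd l s * _ * (S.hd l s)⁻¹ ∈ S.θ.range
  obtain ⟨c, -, hc⟩ := S.hd_conj l s (fun e => hij (Fin.succ_injective _ e))
  rw [hc]
  exact S.X_mem_range hij _

theorem hd_change (l0 l : Fin n) (s : Fˣ) : ∃ q ∈ S.θ.range, S.hd l s = S.hd l0 s * q := by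
  rcases eq_or_ne l0 l with rfl | hl
  · exact ⟨1, one_mem _, (mul_one _).symm⟩
  have hne : l0.succ ≠ l.succ := fun e => hl (Fin.succ_injective _ e)
  set w := S.R.chi S.W hne wS
  have hw : w ∈ S.θ.range := S.R.chi_range S.W hne wS (fun t => S.X_mem_range hl t)
    fun t => S.X_mem_range hl.symm t
  have e : (MulAut.conj w).toMonoidHom.comp (S.R.chi S.W (e0 l0)) = (S.R.chi S.W (e0 l)).comp th2 := by
    refine s2_hom_ext (fun t => ?_) fun t => ?_
    · show w * S.R.chi S.W (e0 l0) (xt t) * w⁻¹ = S.R.chi S.W (e0 l) (th2 (xt t))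
      rw [S.R.chi_xt, th2_xt, S.R.chi_xt, S.R.chi_row_fst S.W hne (e0 l0).symm (e0 l).symm, coe_wS]
      simp [S.R.zero (e0 l0)]
    · show w * S.R.chi S.W (e0 l0) (yt t) * w⁻¹ = S.R.chi S.W (e0 l) (th2 (yt t))
      rw [S.R.chi_yt, th2_yt, S.R.chi_yt, S.R.chi_col_fst S.W hne (e0 l0).symm (e0 l).symm, coe_wS]
      simp [S.R.zero (e0 l0).symm]
  have e1 : w * S.hd l0 s * w⁻¹ = S.hd l s := by
    have := DFunLike.congr_fun e (dg s)
    rw [MonoidHom.comp_apply, MonoidHom.comp_apply, th2_dg] at this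
    exact this
  refine ⟨(S.hd l0 s⁻¹) * w * (S.hd l0 s⁻¹)⁻¹ * w⁻¹, mul_mem (S.hd_range l0 s⁻¹ hw) (inv_mem hw), ?_⟩
  rw [← e1, ← S.hd_inv]
  group

/-- the family of one row entry -/
def rowF (k : Fin n) : Multiplicative F →* H :=
  MonoidHom.mk' (fun t => S.X 0 k.succ t.toAdd) fun _ _ => S.R.add (e0 k) _ _

/-- the family of one column entry -/
def colF (k : Fin n) : Multiplicative F →* H :=
  MonoidHom.mk' (fun t => S.X k.succ 0 t.toAdd) fun _ _ => S.R.add (e0 k).symm _ _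

omit [Finite F] in
theorem rowF_comm : Pairwise fun i j => ∀ x y : Multiplicative F, Commute (S.rowF i x) (S.rowF j y) :=
  fun i j _ _ _ => S.R.comm (e0 i) (e0 j) (e0 j) (e0 i).symm _ _

omit [Finite F] in
theorem colF_comm : Pairwise fun i j => ∀ x y : Multiplicative F, Commute (S.colF i x) (S.colF j y) :=
  fun i j _ _ _ => S.R.comm (e0 i).symm (e0 j).symm (e0 i).symm (e0 j) _ _

/-- the row group -/
noncomputable def rowH : (Fin n → Multiplicative F) →* H :=
  MonoidHom.noncommPiCoprod S.rowF S.rowF_comm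

/-- the column group -/
noncomputable def colH : (Fin n → Multiplicative F) →* H :=
  MonoidHom.noncommPiCoprod S.colF S.colF_comm

omit [Finite F] in
theorem rowH_single (k : Fin n) (t : Multiplicative F) :
    S.rowH (Pi.mulSingle k t) = S.X 0 k.succ t.toAdd :=
  MonoidHom.noncommPiCoprod_mulSingle _ _ _

omit [Finite F] in
theorem colH_single (k : Fin n) (t : Multiplicative F) :
    S.colH (Pi.mulSingle k t) = S.X k.succ 0 t.toAdd :=
  MonoidHom.noncommPiCoprod_mulSingle _ _ _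

omit [Finite F] in
theorem row_mem (k : Fin n) (t : F) : S.X 0 k.succ t ∈ S.rowH.range :=
  ⟨_, S.rowH_single k (Multiplicative.ofAdd t)⟩

omit [Finite F] in
theorem col_mem (k : Fin n) (t : F) : S.X k.succ 0 t ∈ S.colH.range :=
  ⟨_, S.colH_single k (Multiplicative.ofAdd t)⟩

omit [Finite F] in
theorem row_le {T : Subgroup H} (h : ∀ (k : Fin n) t, S.X 0 k.succ t ∈ T) : S.rowH.range ≤ T :=
  le_of_eq_of_le (MonoidHom.noncommPiCoprod_range _) (iSup_le fun k => by rintro _ ⟨t, rfl⟩; exact h k t.toAdd)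

omit [Finite F] in
theorem col_le {T : Subgroup H} (h : ∀ (k : Fin n) t, S.X k.succ 0 t ∈ T) : S.colH.range ≤ T :=
  le_of_eq_of_le (MonoidHom.noncommPiCoprod_range _) (iSup_le fun k => by rintro _ ⟨t, rfl⟩; exact h k t.toAdd)

omit [Finite F] in
theorem row_conj_succ {i j : Fin n} (hij : i ≠ j) (t : F) {m : H} (hm : m ∈ S.rowH.range) :
    S.X i.succ j.succ t * m * (S.X i.succ j.succ t)⁻¹ ∈ S.rowH.range := by
  have hij' : i.succ ≠ j.succ := fun e => hij (Fin.succ_injective _ e)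
  refine S.row_le (T := S.rowH.range.comap (MulAut.conj (S.X i.succ j.succ t)).toMonoidHom) (fun k u => ?_) hm
  show S.X i.succ j.succ t * S.X 0 k.succ u * (S.X i.succ j.succ t)⁻¹ ∈ S.rowH.range
  rcases eq_or_ne k i with rfl | hk
  · rw [S.R.move_left (e0 k) hij' (e0 j)]
    exact mul_mem (S.row_mem j _) (S.row_mem k _)
  · rw [S.R.fix hij' (e0 k) (fun e => hk (Fin.succ_injective _ e).symm) (e0 j).symm]
    exact S.row_mem k u

omit [Finite F] in
theorem range_conj_row {q m : H} (hq : q ∈ S.θ.range) (hm : m ∈ S.rowH.range) :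
    q * m * q⁻¹ ∈ S.rowH.range := by
  have hle : S.θ.range ≤ Subgroup.normalizer (S.rowH.range : Set H) := S.range_le fun i j hij t => by
    rw [Subgroup.mem_normalizer_iff]
    refine fun x => ⟨fun hx => S.row_conj_succ hij t hx, fun hx => ?_⟩
    have := S.row_conj_succ hij (-t) hx
    rw [← S.R.neg (fun e => hij (Fin.succ_injective _ e)) t] at this
    simpa [mul_assoc] using this
  exact ((Subgroup.mem_normalizer_iff).1 (hle hq) m).1 hm

/-- the generators of the stabiliser of the first line -/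
def pGen : Set H :=
  {x | (∃ l s, x = S.hd l s) ∨ ∃ (i j : Fin (n + 1)) (t : F), i ≠ j ∧ j ≠ 0 ∧ x = S.X i j t}

/-- the stabiliser of the first line -/
def P : Subgroup H := Subgroup.closure S.pGen

theorem X_mem_P {i j : Fin (n + 1)} (hij : i ≠ j) (hj : j ≠ 0) (t : F) : S.X i j t ∈ S.P :=
  Subgroup.subset_closure (Or.inr ⟨i, j, t, hij, hj, rfl⟩)

theorem hd_mem_P (l : Fin n) (s : Fˣ) : S.hd l s ∈ S.P :=
  Subgroup.subset_closure (Or.inl ⟨l, s, rfl⟩)

theorem P_decomp (l0 : Fin n) {x : H} (hx : x ∈ S.P) :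
    ∃ (s : Fˣ), ∃ r ∈ S.rowH.range, ∃ q ∈ S.θ.range, x = S.hd l0 s * r * q := by
  have step : ∀ g ∈ S.pGen, ∀ y, (∃ (s : Fˣ), ∃ r ∈ S.rowH.range, ∃ q ∈ S.θ.range, y = S.hd l0 s * r * q) →
      ∃ (s : Fˣ), ∃ r ∈ S.rowH.range, ∃ q ∈ S.θ.range, g * y = S.hd l0 s * r * q := by
    rintro g hg _ ⟨s, r, hr, q, hq, rfl⟩
    rcases hg with ⟨l, a, rfl⟩ | ⟨i, j, t, hij, hj, rfl⟩
    · obtain ⟨q0, hq0, e⟩ := S.hd_change l0 l a
      have h1 := S.hd_range l0 s⁻¹ hq0
      rw [← S.hd_inv, inv_inv] at h1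
      refine ⟨a * s, _, S.range_conj_row h1 hr, _, mul_mem h1 hq, ?_⟩
      rw [e, S.hd_mul]
      group
    · obtain ⟨c, hc0, hc⟩ := S.hd_conj l0 s hij
      have hconj : S.X i j t * S.hd l0 s = S.hd l0 s * S.X i j (c⁻¹ * t) := by
        have := hc (c⁻¹ * t)
        rw [← mul_assoc c, mul_inv_cancel₀ hc0, one_mul, mul_inv_eq_iff_eq_mul] at this
        exact this.symm
      obtain ⟨j', rfl⟩ := Fin.exists_succ_eq_of_ne_zero hj
      by_cases hi : i = 0
      · subst hi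
        exact ⟨s, _, mul_mem (S.row_mem j' (c⁻¹ * t)) hr, q, hq, by simp only [← mul_assoc, hconj]⟩
      · obtain ⟨i', rfl⟩ := Fin.exists_succ_eq_of_ne_zero hi
        have hne : i' ≠ j' := fun e => hij (congrArg Fin.succ e)
        refine ⟨s, _, S.row_conj_succ hne (c⁻¹ * t) hr, _,
          mul_mem (S.X_mem_range hne (c⁻¹ * t)) hq, ?_⟩
        calc S.X i'.succ j'.succ t * (S.hd l0 s * r * q)
            = (S.X i'.succ j'.succ t * S.hd l0 s) * r * q := by group
          _ = _ := by rw [hconj]; group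
  induction hx using Subgroup.closure_induction_left with
  | one => exact ⟨1, 1, one_mem _, 1, one_mem _, by rw [hd_one, mul_one, mul_one]⟩
  | mul_left g hg y _ ih => exact step g hg y ih
  | inv_mul_cancel g hg y _ ih =>
    refine step g⁻¹ ?_ y ih
    rcases hg with ⟨l, a, rfl⟩ | ⟨i, j, t, hij, hj, rfl⟩
    · exact Or.inl ⟨l, a⁻¹, S.hd_inv l a⟩
    · exact Or.inr ⟨i, j, -t, hij, hj, S.R.neg hij t⟩

end Stp

end CfsgLib.Char.SingleBond
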